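import Mathlib
import Groth.Agent.LocFlat.Fibre
import Groth.Agent.QGorLib.FlatDepth
import Groth.Agent.LocCohLib.CMSop
import Groth.Agent.CotTLib.CI

/-! Flat lifts over Artinian local rings: regular sequences lift from the closed fibre. -/

set_option autoImplicit false

noncomputable section

namespace Groth.Agent.DeformLib

open IsLocalRing RingTheory.Sequence TensorProduct
open scoped Pointwise

universe u

theorem isNoetherianRing_of_nilpotent {A : Type u} [CommRing A] (I : Ideal A) (hn : IsNilpotent I) (hfg : I.FG)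
    [IsNoetherianRing (A ⧸ I)] : IsNoetherianRing A := by
  refine IsNoetherianRing.of_prime fun p hp => ?_
  have hle : I ≤ p := by
    obtain ⟨n, hn⟩ := hn
    exact Ideal.IsPrime.le_of_pow_le (n := n) (by rw [hn]; exact bot_le)
  obtain ⟨t, ht⟩ := IsNoetherian.noetherian (Ideal.map (Ideal.Quotient.mk I) p)
  classical
  choose f hf using fun x : A ⧸ I => Ideal.Quotient.mk_surjective x
  have hp_eq : p = Ideal.span (↑(t.image f) : Set A) ⊔ I := by
    refine le_antisymm ?_ (sup_le ?_ hle)
    · intro x hx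
      have h1 : Ideal.Quotient.mk I x ∈ (Ideal.span (↑(t.image f) : Set A)).map (Ideal.Quotient.mk I) := by
        rw [Ideal.map_span, Finset.coe_image, ← Set.image_comp, show (Ideal.Quotient.mk I) ∘ f = id from funext hf,
          Set.image_id, show Ideal.span (↑t : Set (A ⧸ I)) = Ideal.map (Ideal.Quotient.mk I) p from ht]
        exact Ideal.mem_map_of_mem _ hx
      rwa [Ideal.mem_quotient_iff_mem_sup] at h1
    · rw [Ideal.span_le]
      intro x hx
      obtain ⟨y, hy, rfl⟩ := Finset.mem_image.mp hx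
      have h1 : Ideal.Quotient.mk I (f y) ∈ Ideal.map (Ideal.Quotient.mk I) p := by
        rw [hf, ← ht]; exact Submodule.subset_span hy
      rwa [Ideal.mem_quotient_iff_mem_sup, sup_eq_left.mpr hle] at h1
  rw [hp_eq]
  exact Submodule.FG.sup ⟨_, rfl⟩ hfg

theorem ringKrullDim_quotient_of_le_nilradical {A : Type u} [CommRing A] (I : Ideal A) (hI : I ≤ nilradical A) :
    ringKrullDim (A ⧸ I) = ringKrullDim A := by
  rw [ringKrullDim_quotient]
  have h : PrimeSpectrum.zeroLocus (I : Set A) = Set.univ :=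
    Set.eq_univ_of_forall fun p => fun x hx => nilradical_le_prime p.asIdeal (hI hx)
  rw [h]
  exact Order.krullDim_eq_of_orderIso OrderIso.Set.univ

theorem isWeaklyRegular_of_ringKrullDim {R : Type u} [CommRing R] [LocCoh.IsCohenMacaulayLocalRing R] (rs : List R)
    (hmem : ∀ x ∈ rs, x ∈ maximalIdeal R)
    (hdim : ringKrullDim (R ⧸ Ideal.ofList rs) + rs.length = ringKrullDim R) : IsWeaklyRegular R rs := by
  have hne : Ideal.ofList rs ≠ ⊤ := fun h => (maximalIdeal.isMaximal R).ne_top
    (top_le_iff.mp (h ▸ Ideal.span_le.mpr hmem))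
  haveI : Nontrivial (R ⧸ Ideal.ofList rs) := Ideal.Quotient.nontrivial_iff.mpr hne
  haveI : IsLocalRing (R ⧸ Ideal.ofList rs) := RegLocal.isLocalRing_quot hne
  obtain ⟨e, he⟩ : ∃ e : ℕ, ringKrullDim (R ⧸ Ideal.ofList rs) = e := by
    obtain ⟨n, hn⟩ := ENat.ne_top_iff_exists.mp (Ideal.height_ne_top (I := maximalIdeal (R ⧸ Ideal.ofList rs)) (maximalIdeal.isMaximal _).ne_top)
    exact ⟨n, by rw [← maximalIdeal_height_eq_ringKrullDim, ← hn]; rfl⟩
  obtain ⟨ys, hlen, hys, hrad⟩ := CotTLib.exists_sop_quot (Ideal.ofList rs) hne he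
  have hd : ringKrullDim R = ((rs ++ ys).length : ℕ) := by
    rw [← hdim, he, List.length_append, hlen, Nat.cast_add, add_comm]
  have h := LocCohLib.isWeaklyRegular_of_sop hd (b := (rs ++ ys).get) (by
    rw [Set.range_list_get, ← Ideal.ofList_append] at *
    refine le_antisymm ((maximalIdeal.isMaximal R).isPrime.radical_le_iff.mpr (Ideal.span_le.mpr ?_)) hrad
    intro x hx
    rcases List.mem_append.mp hx with h | h
    · exact hmem x h
    · exact hys x h)
  rw [List.ofFn_get, isWeaklyRegular_append_iff] at h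
  exact h.1

section

variable {R S : Type u} [CommRing R] [CommRing S] [IsLocalRing R] [IsLocalRing S] [IsNoetherianRing R]
  [IsNoetherianRing S] [Algebra R S] [IsLocalHom (algebraMap R S)]

/-- A sequence regular on the closed fibre of a flat module is regular with flat quotient. -/
theorem weaklyRegular_and_flat_of_fibre (rs : List S) :
    ∀ (M : Type u) [AddCommGroup M] [Module R M] [Module S M] [IsScalarTower R S M] [Module.Finite S M]
      [Module.Flat R M], IsWeaklyRegular ((S ⧸ (maximalIdeal R).map (algebraMap R S)) ⊗[S] M) rs →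
      IsWeaklyRegular M rs ∧ Module.Flat R (M ⧸ (Ideal.ofList rs • ⊤ : Submodule S M)) := by
  induction rs with
  | nil =>
    intro M _ _ _ _ _ _ _
    refine ⟨IsWeaklyRegular.nil S M, ?_⟩
    exact Module.Flat.of_linearEquiv
      ((Submodule.quotEquivOfEqBot (Ideal.ofList ([] : List S) • (⊤ : Submodule S M))
        (by rw [Ideal.ofList_nil, Submodule.bot_smul])).restrictScalars R)
  | cons r rs ih =>
    intro M _ _ _ _ _ _ h
    rw [isWeaklyRegular_cons_iff] at h
    have h1 : IsSMulRegular (M ⧸ ((maximalIdeal R).map (algebraMap R S) • ⊤ : Submodule S M)) r :=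
      ((quotTensorEquivQuotSMul M _).isSMulRegular_congr r).mp h.1
    obtain ⟨hr, hflat⟩ := QGorLib.regular_and_flat_of_fibre (R := R) r fun x hx => by
      exact (Submodule.Quotient.mk_eq_zero _).mp (h1.right_eq_zero_of_smul
        (by rw [← Submodule.Quotient.mk_smul]; exact (Submodule.Quotient.mk_eq_zero _).mpr hx))
    haveI := hflat
    obtain ⟨h2, hflat'⟩ := ih (QuotSMulTop r M)
      ((QuotSMulTop.tensorQuotSMulTopEquivQuotSMulTop r _ M).isWeaklyRegular_congr rs |>.mpr h.2)
    refine ⟨(isWeaklyRegular_cons_iff M r rs).mpr ⟨hr, h2⟩, ?_⟩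
    haveI := hflat'
    exact Module.Flat.of_linearEquiv
      ((Submodule.quotOfListConsSMulTopEquivQuotSMulTopInner M r rs).restrictScalars R)

end

theorem local_of_fibre {C A : Type u} [CommRing C] [IsLocalRing C] [IsArtinianRing C] [CommRing A] [Algebra C A]
    [IsNoetherianRing (A ⧸ (maximalIdeal C).map (algebraMap C A))]
    [IsLocalRing (A ⧸ (maximalIdeal C).map (algebraMap C A))] :
    IsLocalRing A ∧ IsNoetherianRing A ∧ IsLocalHom (algebraMap C A) ∧
      (maximalIdeal C).map (algebraMap C A) ≤ nilradical A := by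
  set I := (maximalIdeal C).map (algebraMap C A)
  obtain ⟨n, hn⟩ : IsNilpotent (maximalIdeal C) := by
    simpa [IsLocalRing.jacobson_eq_maximalIdeal] using IsArtinianRing.isNilpotent_jacobson_bot (R := C)
  have hI : IsNilpotent I := ⟨n, by
    rw [← Ideal.map_pow, hn]
    exact Ideal.map_bot⟩
  have hfg : I.FG := Ideal.FG.map (IsNoetherian.noetherian (maximalIdeal C)) _
  have hle : I ≤ nilradical A := fun x hx => by
    obtain ⟨n, hn⟩ := hI
    exact ⟨n, by have := Ideal.pow_mem_pow hx n; rw [hn] at this; exact this⟩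
  have hhom : IsLocalHom (Ideal.Quotient.mk I) := ⟨fun a ha => by
    obtain ⟨b, hb⟩ := ha.exists_right_inv
    obtain ⟨b, rfl⟩ := Ideal.Quotient.mk_surjective b
    have h1 : a * b - 1 ∈ nilradical A := hle (Ideal.Quotient.eq.mp (by rw [map_mul, hb, map_one]))
    have h2 : IsUnit (a * b) := by
      have := IsNilpotent.isUnit_add_one (show IsNilpotent (a * b - 1) from h1)
      rwa [sub_add_cancel] at this
    exact isUnit_of_mul_isUnit_left h2⟩
  haveI : Nontrivial A := (Ideal.Quotient.mk I).domain_nontrivial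
  haveI : IsLocalRing A := IsLocalRing.of_isUnit_or_isUnit_one_sub_self (by
    by_contra h
    push Not at h
    obtain ⟨a, ha, ha'⟩ := h
    rcases IsLocalRing.isUnit_or_isUnit_one_sub_self (Ideal.Quotient.mk I a) with h1 | h1
    · exact ha (hhom.map_nonunit _ h1)
    · exact ha' (hhom.map_nonunit _ (by rwa [map_sub, map_one])))
  refine ⟨inferInstance, isNoetherianRing_of_nilpotent I hI hfg, ⟨fun c hc => ?_⟩, hle⟩
  by_contra hc'
  exact ((IsLocalRing.mem_maximalIdeal _).mp
    ((nilradical_le_prime (maximalIdeal A)) (hle (Ideal.mem_map_of_mem _ hc')))) hc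

theorem ringKrullDim_quot_quot {A : Type u} [CommRing A] (I K : Ideal A) (hI : I ≤ nilradical A) :
    ringKrullDim ((A ⧸ I) ⧸ K.map (Ideal.Quotient.mk I)) = ringKrullDim (A ⧸ K) := by
  rw [ringKrullDim_eq_of_ringEquiv (DoubleQuot.quotQuotEquivQuotSup I K), ringKrullDim_quotient, ringKrullDim_quotient]
  have h : PrimeSpectrum.zeroLocus ((I ⊔ K : Ideal A) : Set A) = PrimeSpectrum.zeroLocus (K : Set A) := by
    ext p
    simp only [PrimeSpectrum.mem_zeroLocus, SetLike.coe_subset_coe, sup_le_iff]
    exact ⟨fun h => h.2, fun h => ⟨hI.trans (nilradical_le_prime _), h⟩⟩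
  rw [h]

/-- A sequence regular on the closed fibre lifts to a regular sequence with flat quotient. -/
theorem isRegular_and_flat_of_fibre {C A : Type u} [CommRing C] [IsLocalRing C] [IsArtinianRing C] [CommRing A]
    [Algebra C A] [Module.Flat C A] [IsLocalRing A] [IsNoetherianRing A] [IsLocalHom (algebraMap C A)] {r : ℕ}
    (a : Fin r → A) (hm : ∀ i, a i ∈ maximalIdeal A)
    (h : IsWeaklyRegular (A ⧸ (maximalIdeal C).map (algebraMap C A))
      (List.ofFn fun i => Ideal.Quotient.mk ((maximalIdeal C).map (algebraMap C A)) (a i))) :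
    IsRegular A (List.ofFn a) ∧ Module.Flat C (A ⧸ Ideal.span (Set.range a)) := by
  set I := (maximalIdeal C).map (algebraMap C A)
  have hmap : (List.ofFn fun i => Ideal.Quotient.mk I (a i)) = (List.ofFn a).map (algebraMap A (A ⧸ I)) := by
    rw [List.map_ofFn]; rfl
  rw [hmap, isWeaklyRegular_map_algebraMap_iff] at h
  obtain ⟨h1, h2⟩ := weaklyRegular_and_flat_of_fibre (R := C) (List.ofFn a) A
    ((TensorProduct.rid A (A ⧸ I)).isWeaklyRegular_congr _ |>.mpr h)
  have hspan : Ideal.ofList (List.ofFn a) = Ideal.span (Set.range a) :=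
    congrArg Ideal.span (Set.ext fun x => List.mem_ofFn)
  refine ⟨⟨h1, ?_⟩, ?_⟩
  · rw [smul_eq_mul, Ideal.mul_top, hspan]
    exact fun e => (maximalIdeal.isMaximal A).ne_top (top_le_iff.mp (e.le.trans (Ideal.span_le.mpr (by
      rintro _ ⟨i, rfl⟩; exact hm i))))
  · haveI := h2
    exact Module.Flat.of_linearEquiv
      ((Submodule.quotEquivOfEq (Ideal.span (Set.range a)) (Ideal.ofList (List.ofFn a) • ⊤)
        (by rw [smul_eq_mul, Ideal.mul_top, hspan])).restrictScalars C)

end Groth.Agent.DeformLib
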