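import Mathlib

/-! Square-zero thickenings of Artinian local bases: flatness and comparison of flat lifts. -/

set_option autoImplicit false

noncomputable section

namespace Groth.Agent.DeformLib

open TensorProduct IsLocalRing

universe u

variable {R : Type u} [CommRing R] [IsLocalRing R] (J : Ideal R)

/-- Flatness over a square-zero extension by an ideal killed by the maximal ideal. -/
theorem flat_of_sqzero (hJ : maximalIdeal R * J = ⊥) {M M₀ : Type u} [AddCommGroup M] [Module R M]
    [AddCommGroup M₀] [Module (R ⧸ J) M₀] [Module.Flat (R ⧸ J) M₀] (g : M →+ M₀) (hg : Function.Surjective g)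
    (hlin : ∀ (r : R) (m : M), g (r • m) = Ideal.Quotient.mk J r • g m)
    (hker : ∀ m, g m = 0 → m ∈ (J • ⊤ : Submodule R M))
    (hinj : Function.Injective (J.subtype.lTensor M)) : Module.Flat R M := by
  classical
  rw [Module.Flat.iff_lTensor_injective']
  intro 𝔞
  rw [injective_iff_map_eq_zero]
  intro z hz
  let K : Submodule R R := 𝔞 ⊓ J
  let i : K →ₗ[R] 𝔞 := Submodule.inclusion inf_le_left
  suffices h : z ∈ LinearMap.range (i.lTensor M) by
    obtain ⟨w, rfl⟩ := h
    suffices hw : w = 0 by rw [hw, map_zero]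
    let i' : K →ₗ[R] J := Submodule.inclusion inf_le_right
    have h0 : i'.lTensor M w = 0 := by
      apply hinj
      rw [map_zero, ← LinearMap.lTensor_comp_apply, ← hz, ← LinearMap.lTensor_comp_apply]
      rfl
    letI := Ideal.Quotient.field (maximalIdeal R)
    have htJ : Module.IsTorsionBySet R J (maximalIdeal R : Set R) := fun x r => Subtype.ext (by
      have h1 : (r : R) * (x : R) ∈ maximalIdeal R * J := Ideal.mul_mem_mul r.2 x.2
      rw [hJ] at h1
      exact h1)
    have htK : Module.IsTorsionBySet R K (maximalIdeal R : Set R) := fun x r => Subtype.ext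
      (congrArg Subtype.val (@htJ (i' x) r) : (r : R) * (x : R) = 0)
    letI := htJ.module
    letI := htK.module
    let ik : K →ₗ[R ⧸ maximalIdeal R] J :=
      { toFun := i'
        map_add' := map_add i'
        map_smul' := fun c x => by
          obtain ⟨c, rfl⟩ := Ideal.Quotient.mk_surjective c
          exact map_smul i' c x }
    obtain ⟨p, hp⟩ := LinearMap.exists_leftInverse_of_injective ik
      (LinearMap.ker_eq_bot.mpr (Submodule.inclusion_injective (inf_le_right : K ≤ J)))
    let pR : J →ₗ[R] K :=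
      { toFun := p
        map_add' := map_add p
        map_smul' := fun r x => map_smul p (Ideal.Quotient.mk (maximalIdeal R) r) x }
    have hcomp : pR ∘ₗ i' = LinearMap.id := LinearMap.ext fun x => LinearMap.congr_fun hp x
    rw [← LinearMap.id_apply (R := R) w, ← LinearMap.lTensor_id, ← hcomp, LinearMap.lTensor_comp_apply, h0, map_zero]
  obtain ⟨s, hs⟩ := TensorProduct.exists_finset z
  have h1 : ∑ q ∈ s, (q.2 : R) • q.1 = 0 := by
    have h2 := congrArg (TensorProduct.rid R M) hz
    rw [map_zero, hs, map_sum, map_sum] at h2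
    exact h2
  have h1' : ∑ q : s, Ideal.Quotient.mk J (q.1.2 : R) • g q.1.1 = 0 := by
    rw [Finset.sum_coe_sort s (fun q => Ideal.Quotient.mk J (q.2 : R) • g q.1)]
    simp only [← hlin]
    rw [← map_sum, h1, map_zero]
  obtain ⟨n, a, y, hy, ha⟩ := Module.Flat.isTrivialRelation_of_sum_smul_eq_zero h1'
  choose a' ha' using fun q j => Ideal.Quotient.mk_surjective (a q j)
  choose y' hy' using fun j => hg (y j)
  have hrest : ∀ q : s, q.1.1 - ∑ j, a' q j • y' j ∈ (J • ⊤ : Submodule R M) := fun q => hker _ (by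
    rw [map_sub, map_sum, sub_eq_zero]
    refine (hy q).trans ?_
    exact Finset.sum_congr rfl fun j _ => by rw [hlin, ha', hy'])
  have hsplit : z = ∑ j, y' j ⊗ₜ[R] (∑ q : s, a' q j • q.1.2) + ∑ q : s, (q.1.1 - ∑ j, a' q j • y' j) ⊗ₜ[R] q.1.2 := by
    simp only [TensorProduct.sub_tmul, TensorProduct.tmul_sum, TensorProduct.sum_tmul, TensorProduct.tmul_smul,
      TensorProduct.smul_tmul', Finset.sum_sub_distrib]
    rw [Finset.sum_comm, add_sub_cancel, Finset.sum_coe_sort s (fun q => q.1 ⊗ₜ[R] q.2)]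
    exact hs
  rw [hsplit]
  refine add_mem (Submodule.sum_mem _ fun j _ => ?_) (Submodule.sum_mem _ fun q _ => ?_)
  · have hb : ((∑ q : s, a' q j • q.1.2 : 𝔞) : R) ∈ J := by
      rw [← Ideal.Quotient.eq_zero_iff_mem, Submodule.coe_sum, map_sum, ← ha j]
      exact Finset.sum_congr rfl fun q _ => by
        rw [Submodule.coe_smul, smul_eq_mul, map_mul, ha', mul_comm]
    exact ⟨y' j ⊗ₜ ⟨_, (∑ q : s, a' q j • q.1.2 : 𝔞).2, hb⟩, rfl⟩
  · have key : ∀ v ∈ (J • ⊤ : Submodule R M), ∀ b : 𝔞, v ⊗ₜ[R] b ∈ LinearMap.range (i.lTensor M) := by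
      intro v hv b
      induction hv using Submodule.smul_induction_on' with
      | smul r hr m _ =>
        rw [TensorProduct.smul_tmul]
        exact ⟨m ⊗ₜ ⟨_, (r • b).2, J.mul_mem_right _ hr⟩, rfl⟩
      | add v _ w _ hv hw => rw [TensorProduct.add_tmul]; exact add_mem hv hw
    exact key _ (hrest q) _

variable {A : Type u} [CommRing A] [Algebra R A]

/-- Multiplication `A ⊗ J → A`. -/
def mulJ : A ⊗[R] J →ₗ[A] A :=
  (AlgebraTensorModule.rid R A A).toLinearMap ∘ₗ AlgebraTensorModule.lTensor A A (Submodule.subtype J)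

omit [IsLocalRing R] in
theorem mulJ_eq (z : A ⊗[R] J) :
    mulJ J z = TensorProduct.rid R A (LinearMap.lTensor A (Submodule.subtype J) z) := by
  induction z with
  | zero => simp
  | tmul a j => rfl
  | add x y hx hy => simp only [map_add, hx, hy]

omit [IsLocalRing R] in
theorem mulJ_injective [Module.Flat R A] : Function.Injective (mulJ (A := A) J) := fun x y h => by
  rw [mulJ_eq, mulJ_eq] at h
  exact Module.Flat.lTensor_preserves_injective_linearMap (M := A) (Submodule.subtype J)
    (Submodule.subtype_injective _) ((TensorProduct.rid R A).injective h)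

omit [IsLocalRing R] in
theorem range_mulJ : LinearMap.range (mulJ (A := A) J) = J.map (algebraMap R A) := by
  refine le_antisymm ?_ ?_
  · rintro _ ⟨z, rfl⟩
    induction z with
    | zero => simp
    | tmul a j =>
      show (j : R) • a ∈ _
      rw [Algebra.smul_def]
      exact Ideal.mul_mem_right _ _ (Ideal.mem_map_of_mem _ j.2)
    | add x y hx hy => rw [map_add]; exact add_mem hx hy
  · refine Ideal.map_le_iff_le_comap.mpr fun j hj => ⟨1 ⊗ₜ ⟨j, hj⟩, ?_⟩
    show j • (1 : A) = _
    rw [Algebra.smul_def, mul_one]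

/-- Reduction `A ⊗ J → B ⊗ J`. -/
def redJ (B : Type u) [CommRing B] [Algebra R B] [Algebra A B] [IsScalarTower R A B] : A ⊗[R] J →ₗ[A] B ⊗[R] J :=
  AlgebraTensorModule.rTensor R J (Algebra.linearMap A B)

omit [IsLocalRing R] in
theorem redJ_eq (B : Type u) [CommRing B] [Algebra R B] [Algebra A B] [IsScalarTower R A B] (z : A ⊗[R] J) :
    redJ J B z = LinearMap.rTensor J (IsScalarTower.toAlgHom R A B).toLinearMap z := by
  induction z with
  | zero => simp
  | tmul a j => rfl
  | add x y hx hy => simp only [map_add, hx, hy]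

omit [IsLocalRing R] in
/-- The reduction kills whatever multiplies into a flat lift. -/
theorem redJ_eq_zero (I : Ideal (A ⧸ J.map (algebraMap R A))) (I' : Ideal A) [Module.Flat R (A ⧸ I')]
    (hI' : I'.map (Ideal.Quotient.mk (J.map (algebraMap R A))) ≤ I) (z : A ⊗[R] J) (hz : mulJ J z ∈ I') :
    redJ J ((A ⧸ J.map (algebraMap R A)) ⧸ I) z = 0 := by
  let π' : A →ₗ[R] A ⧸ I' := (Ideal.Quotient.mkₐ R I').toLinearMap
  have h1 : LinearMap.rTensor J π' z = 0 := by
    apply Module.Flat.lTensor_preserves_injective_linearMap (M := A ⧸ I') (Submodule.subtype J)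
      (Submodule.subtype_injective _)
    apply (TensorProduct.rid R (A ⧸ I')).injective
    rw [map_zero, map_zero]
    have h2 : π' (mulJ J z) = 0 := Ideal.Quotient.eq_zero_iff_mem.mpr hz
    rw [← h2]
    clear h2 hz
    induction z with
    | zero => simp
    | tmul a j => rfl
    | add x y hx hy => simp only [map_add, hx, hy]
  have hle : I' ≤ RingHom.ker (algebraMap A ((A ⧸ J.map (algebraMap R A)) ⧸ I)) := fun x hx => by
    rw [RingHom.mem_ker]
    exact Ideal.Quotient.eq_zero_iff_mem.mpr (hI' (Ideal.mem_map_of_mem _ hx))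
  let q : (A ⧸ I') →ₐ[R] (A ⧸ J.map (algebraMap R A)) ⧸ I :=
    Ideal.Quotient.liftₐ I' (IsScalarTower.toAlgHom R A _) fun x hx => hle hx
  have h3 : redJ J ((A ⧸ J.map (algebraMap R A)) ⧸ I) z = LinearMap.rTensor J q.toLinearMap (LinearMap.rTensor J π' z) := by
    rw [redJ_eq, ← LinearMap.rTensor_comp_apply]
    rfl
  rw [h3, h1, map_zero]

omit [IsLocalRing R] in
theorem exists_mulJ_eq {x y : A} (h : Ideal.Quotient.mk (J.map (algebraMap R A)) x = Ideal.Quotient.mk (J.map (algebraMap R A)) y) :
    ∃ z, mulJ J z = x - y := by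
  rw [Ideal.Quotient.eq, ← range_mulJ] at h
  exact h

omit [IsLocalRing R] in
theorem rid_lTensor_mk (K : Ideal A) (z : A ⊗[R] J) :
    TensorProduct.rid R (A ⧸ K) ((Submodule.subtype J).lTensor (A ⧸ K) ((Ideal.Quotient.mkₐ R K).toLinearMap.rTensor J z)) =
      Ideal.Quotient.mk K (mulJ J z) := by
  induction z with
  | zero => simp
  | tmul a j => rfl
  | add x y hx hy => simp only [map_add, hx, hy]

omit [IsLocalRing R] in
theorem redJ_surjective (I : Ideal (A ⧸ J.map (algebraMap R A))) :
    Function.Surjective (redJ (A := A) J ((A ⧸ J.map (algebraMap R A)) ⧸ I)) := fun w => by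
  obtain ⟨z, hz⟩ := LinearMap.rTensor_surjective J
    (g := (IsScalarTower.toAlgHom R A ((A ⧸ J.map (algebraMap R A)) ⧸ I)).toLinearMap)
    (fun b => by
      obtain ⟨b, rfl⟩ := Ideal.Quotient.mk_surjective b
      obtain ⟨b, rfl⟩ := Ideal.Quotient.mk_surjective b
      exact ⟨b, rfl⟩) w
  exact ⟨z, by rw [redJ_eq, hz]⟩

theorem rTensor_ker_subtype {M N P : Type u} [AddCommGroup M] [Module R M] [AddCommGroup N] [Module R N]
    [AddCommGroup P] [Module R P] (f : M →ₗ[R] N) (t : LinearMap.ker f ⊗[R] P) :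
    f.rTensor P ((LinearMap.ker f).subtype.rTensor P t) = 0 := by
  rw [← LinearMap.rTensor_comp_apply, LinearMap.comp_ker_subtype, LinearMap.rTensor_zero, LinearMap.zero_apply]

/-- The kernel of the reduction dies in every lift. -/
theorem rTensor_mk_eq_zero_of_redJ (hJ2 : ∀ r ∈ J, ∀ s ∈ J, r * s = 0) (I : Ideal (A ⧸ J.map (algebraMap R A)))
    (K : Ideal A) (hK : K.map (Ideal.Quotient.mk (J.map (algebraMap R A))) = I) (z : A ⊗[R] J)
    (hz : redJ J ((A ⧸ J.map (algebraMap R A)) ⧸ I) z = 0) :
    (Ideal.Quotient.mkₐ R K).toLinearMap.rTensor J z = 0 := by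
  rw [redJ_eq] at hz
  let f := (IsScalarTower.toAlgHom R A ((A ⧸ J.map (algebraMap R A)) ⧸ I)).toLinearMap
  obtain ⟨t, rfl⟩ := (rTensor_exact (f := (LinearMap.ker f).subtype) J (LinearMap.exact_subtype_ker_map f) (fun b => by
      obtain ⟨b, rfl⟩ := Ideal.Quotient.mk_surjective b
      obtain ⟨b, rfl⟩ := Ideal.Quotient.mk_surjective b
      exact ⟨b, rfl⟩) z).mp hz
  induction t with
  | zero => simp
  | add x y hx hy => rw [map_add, map_add, hx (rTensor_ker_subtype f _),
      hy (rTensor_ker_subtype f _), add_zero]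
  | tmul a j =>
    obtain ⟨k, hk, hka⟩ : ∃ k ∈ K, Ideal.Quotient.mk (J.map (algebraMap R A)) k =
        Ideal.Quotient.mk (J.map (algebraMap R A)) a.1 :=
      (Ideal.mem_map_iff_of_surjective _ Ideal.Quotient.mk_surjective).mp (by
        rw [hK]; exact Ideal.Quotient.eq_zero_iff_mem.mp a.2)
    obtain ⟨u, hu⟩ := exists_mulJ_eq J hka.symm
    have ha : Ideal.Quotient.mk K a.1 = Ideal.Quotient.mk K (mulJ J u) := by
      rw [hu, map_sub, Ideal.Quotient.eq_zero_iff_mem.mpr hk, sub_zero]
    show Ideal.Quotient.mk K a.1 ⊗ₜ[R] j = 0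
    rw [ha]
    clear hu ha
    induction u with
    | zero => simp
    | add x y hx hy => rw [map_add, map_add, TensorProduct.add_tmul, hx, hy, add_zero]
    | tmul c r =>
      show Ideal.Quotient.mk K ((r : R) • c) ⊗ₜ[R] j = 0
      rw [show Ideal.Quotient.mk K ((r : R) • c) = (r : R) • Ideal.Quotient.mk K c from rfl, TensorProduct.smul_tmul,
        show (r : R) • j = 0 from Subtype.ext (hJ2 _ r.2 _ j.2), TensorProduct.tmul_zero]

end Groth.Agent.DeformLib
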