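import Groth.Agent.BivarLib.ZeroSection
import Groth.Agent.VBundLib.AffMain
import Groth.Agent.BivarLib.GysinCompat

/-!
# Affine bundles: base change, fibre products, and line bundles with their tautological sections
-/

set_option autoImplicit false
set_option backward.isDefEq.respectTransparency false
set_option linter.style.haveILetI false

universe u

open CategoryTheory CategoryTheory.Limits AlgebraicGeometry TopologicalSpace
open Groth.Agent.CycLib Groth.Agent.CycLib.Dual Groth.Agent.VBundLib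
open scoped ZeroObject

noncomputable section

namespace Groth.Agent.DeformLib

open CycLib.AffBundle (Idx LocTriv)

/-- Affine bundles are stable under base change. -/
theorem locTriv_baseChange {E S S' E' : Scheme.{u}} {π : E ⟶ S} {r : ℕ} (h : LocTriv π r) {f : S' ⟶ S}
    {g : E' ⟶ E} {π' : E' ⟶ S'} (sq : IsPullback g π' π f) : LocTriv π' r := fun y => by
  obtain ⟨U, j, _, hU, hy, sqU⟩ := h (f y)
  obtain ⟨u, hu⟩ := hy
  have sq₁ : IsPullback (pullback.fst j f) (pullback.snd j f) j f := IsPullback.of_hasPullback j f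
  obtain ⟨z, -, hz⟩ := Scheme.exists_preimage_of_isPullback sq₁ u y hu
  have big : IsPullback (AffineSpace.map (Idx.{u} r) (pullback.fst j f) ≫ hU)
      (𝔸(Idx.{u} r; pullback j f) ↘ pullback j f) π (pullback.snd j f ≫ f) := by
    rw [← pullback.condition]
    exact (AffineSpace.isPullback_map (n := Idx.{u} r) (pullback.fst j f)).paste_horiz sqU
  let l := sq.lift (AffineSpace.map (Idx.{u} r) (pullback.fst j f) ≫ hU)
    ((𝔸(Idx.{u} r; pullback j f) ↘ pullback j f) ≫ pullback.snd j f) (by rw [big.w, Category.assoc])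
  refine ⟨pullback j f, pullback.snd j f, inferInstance, l, ⟨z, hz⟩, ?_⟩
  exact IsPullback.of_right (by rw [sq.lift_fst]; exact big) (sq.lift_snd _ _ _) sq

/-- Two coordinates on the plane. -/
def planeProj (U : Scheme.{u}) (a : Fin 2) : 𝔸(Idx.{u} (1 + 1); U) ⟶ 𝔸(Idx.{u} 1; U) :=
  AffineSpace.homOfVector (𝔸(Idx.{u} (1 + 1); U) ↘ U) fun _ => AffineSpace.coord U ⟨a⟩

/-- The plane is the product of two lines. -/
theorem isPullback_plane (U : Scheme.{u}) :
    IsPullback (planeProj U 0) (planeProj U 1) (𝔸(Idx.{u} 1; U) ↘ U) (𝔸(Idx.{u} 1; U) ↘ U) := by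
  have hw : planeProj U 0 ≫ (𝔸(Idx.{u} 1; U) ↘ U) = planeProj U 1 ≫ (𝔸(Idx.{u} 1; U) ↘ U) := by
    rw [planeProj, planeProj, AffineSpace.homOfVector_over, AffineSpace.homOfVector_over]
  let lift : (s : PullbackCone (𝔸(Idx.{u} 1; U) ↘ U) (𝔸(Idx.{u} 1; U) ↘ U)) → (s.pt ⟶ 𝔸(Idx.{u} (1 + 1); U)) := fun s =>
    AffineSpace.homOfVector (s.fst ≫ (𝔸(Idx.{u} 1; U) ↘ U))
      fun i => if i.down = 0 then s.fst.appTop (AffineSpace.coord U ⟨0⟩) else s.snd.appTop (AffineSpace.coord U ⟨0⟩)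
  have hover : ∀ s, lift s ≫ (𝔸(Idx.{u} (1 + 1); U) ↘ U) = s.fst ≫ (𝔸(Idx.{u} 1; U) ↘ U) := fun s =>
    AffineSpace.homOfVector_over _ _
  have hcoord : ∀ (a : Fin 2) (i : Idx.{u} 1), (planeProj U a).appTop (AffineSpace.coord U i) = AffineSpace.coord U ⟨a⟩ :=
    fun a i => AffineSpace.homOfVector_appTop_coord _ _ _
  have hcomp : ∀ {T : Scheme.{u}} (k : T ⟶ 𝔸(Idx.{u} (1 + 1); U)) (a : Fin 2) (i : Idx.{u} 1),
      (k ≫ planeProj U a).appTop (AffineSpace.coord U i) = k.appTop (AffineSpace.coord U ⟨a⟩) := fun k a i => by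
    rw [Scheme.Hom.comp_appTop, CommRingCat.comp_apply, hcoord]
  have hidx : ∀ i : Idx.{u} 1, i = ⟨0⟩ := fun ⟨i⟩ => congrArg ULift.up (Subsingleton.elim i 0)
  refine IsPullback.of_isLimit' ⟨hw⟩ (PullbackCone.IsLimit.mk hw lift (fun s => ?_) (fun s => ?_) fun s m h0 h1 => ?_)
  · refine AffineSpace.hom_ext ?_ fun i => ?_
    · rw [Category.assoc, planeProj, AffineSpace.homOfVector_over, hover]
    · rw [hcomp, AffineSpace.homOfVector_appTop_coord, if_pos rfl, hidx i]
  · refine AffineSpace.hom_ext ?_ fun i => ?_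
    · rw [Category.assoc, planeProj, AffineSpace.homOfVector_over, hover, s.condition]
    · rw [hcomp, AffineSpace.homOfVector_appTop_coord, if_neg (show ¬ (1 : Fin 2) = 0 by decide), hidx i]
  · refine AffineSpace.hom_ext ?_ fun i => ?_
    · rw [hover, ← h0, Category.assoc, planeProj, AffineSpace.homOfVector_over]
    · obtain ⟨i⟩ := i
      rw [AffineSpace.homOfVector_appTop_coord]
      rcases Fin.exists_fin_two.1 ⟨i, rfl⟩ with rfl | rfl
      · rw [if_pos rfl, ← h0, hcomp]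
      · rw [if_neg (show ¬ (1 : Fin 2) = 0 by decide), ← h1, hcomp]

/-- The fibre product of two line bundles is a plane bundle. -/
theorem locTriv_prod {T A S : Scheme.{u}} {q : T ⟶ S} {qA : A ⟶ S} (hq : LocTriv q 1) (hA : LocTriv qA 1) :
    LocTriv (pullback.fst q qA ≫ q) (1 + 1) := fun y => by
  obtain ⟨U, j, _, hT, hy, sqT⟩ := hq y
  obtain ⟨U', j', _, hA', hy', sqA⟩ := hA y
  obtain ⟨u, hu⟩ := hy
  obtain ⟨u', hu'⟩ := hy'
  obtain ⟨z, hz, -⟩ := Scheme.Pullback.exists_preimage_pullback (f := j) (g := j') u u' (hu.trans hu'.symm)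
  let W := pullback j j'
  let jW : W ⟶ S := pullback.fst j j' ≫ j
  have sT : IsPullback (AffineSpace.map (Idx.{u} 1) (pullback.fst j j') ≫ hT) (𝔸(Idx.{u} 1; W) ↘ W) q jW :=
    (AffineSpace.isPullback_map (n := Idx.{u} 1) (pullback.fst j j')).paste_horiz sqT
  have sA : IsPullback (AffineSpace.map (Idx.{u} 1) (pullback.snd j j') ≫ hA') (𝔸(Idx.{u} 1; W) ↘ W) qA jW := by
    rw [show jW = pullback.snd j j' ≫ j' from pullback.condition]
    exact (AffineSpace.isPullback_map (n := Idx.{u} 1) (pullback.snd j j')).paste_horiz sqA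
  set mT := AffineSpace.map (Idx.{u} 1) (pullback.fst j j') ≫ hT
  set mA := AffineSpace.map (Idx.{u} 1) (pullback.snd j j') ≫ hA'
  have s₁ : IsPullback (planeProj W 1 ≫ mA) (planeProj W 0) qA (mT ≫ q) := by
    rw [sT.w]
    exact ((isPullback_plane W).flip).paste_horiz sA
  let c : 𝔸(Idx.{u} (1 + 1); W) ⟶ pullback q qA :=
    pullback.lift (planeProj W 0 ≫ mT) (planeProj W 1 ≫ mA) (by rw [Category.assoc, ← s₁.w, Category.assoc])
  have s₂ : IsPullback c (planeProj W 0) (pullback.fst q qA) mT :=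
    IsPullback.of_right (by rw [pullback.lift_snd]; exact s₁) (pullback.lift_fst _ _ _)
      (IsPullback.of_hasPullback q qA).flip
  have s₃ := s₂.paste_vert sT
  rw [planeProj, AffineSpace.homOfVector_over] at s₃
  exact ⟨W, jW, inferInstance, c, ⟨z, by rw [← hu, ← hz]; exact Scheme.Hom.comp_apply _ _ _⟩, s₃⟩

/-- Every invertible module has a line bundle with a tautological section vanishing exactly on the zero section. -/
theorem exists_lineBundle {S : Scheme.{u}} [IsLocallyNoetherian S] {N : S.Modules} (hN : PicF.IsInvertible N) :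
    ∃ (V : Scheme.{u}) (q : V ⟶ S) (z : S ⟶ V) (u : ((Scheme.Modules.pullback q).obj N).presheaf.obj (Opposite.op ⊤))
      (_ : IsClosedImmersion z), z ≫ q = 𝟙 S ∧ LocTriv q 1 ∧
        Cyc.IsZeroSchemeOf z ((Scheme.Modules.pullback q).obj N) u ∧ ∀ y : S, ∃ v : V, q v = y ∧ v ∉ Set.range z := by
  have hM : PicF.IsInvertible (dd N) := isInvertible_dd hN
  have hflf : ∀ {Z : Scheme.{u}} {L : Z.Modules}, PicF.IsInvertible L → FlatMod.IsFinLocFree L := fun h =>
    flf_of_rank (CurveLib.isFinLocFreeOfRank_one h)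
  haveI : Coh.IsQCoh (dd N) := InvExt.isQCoh_of_isInvertible hM
  have hF : IsZero (0 : S.Modules) := isZero_zero _
  haveI : Coh.IsQCoh (0 : S.Modules) :=
    (Groth.Agent.PullbackMod.isQCoh_and_isFP_of_isFinLocFree _ (flf_of_rank (rank_zero_of_isZero hF))).1
  haveI : Epi (0 : dd N ⟶ (0 : S.Modules)) := ⟨fun g h _ => hF.eq_of_src g h⟩
  have hex : (ShortComplex.mk (𝟙 (dd N)) (0 : dd N ⟶ (0 : S.Modules)) comp_zero).ShortExact :=
      ShortComplex.Splitting.shortExact
        { r := 𝟙 _, s := 0, f_r := by simp, s_g := hF.eq_of_src _ _, id := by simp }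
  have hc : IsVB (RelSpecLib.symAlg (dd N)).π (tautCoord (RelSpecLib.symAlg (dd N)) (RelSpecLib.symJ (dd N))) :=
    isVB_spec (RelSpecLib.isSymAlg_symAlg _)
  obtain ⟨W, p, cF, ι, wι, hι, hcF, eι⟩ := exists_subBundle hc (0 : dd N ⟶ (0 : S.Modules))
  haveI := hι
  have hEr : FlatMod.IsFinLocFreeOfRank (0 + 1) (dd N) := CurveLib.isFinLocFreeOfRank_one hM
  have hFr : FlatMod.IsFinLocFreeOfRank 0 (0 : S.Modules) := rank_zero_of_isZero hF
  obtain ⟨hzero, -⟩ := zero_data hc hcF hex hM hEr hFr ι wι eι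
  haveI := isIso_of_locTriv_zero (hcF.locTriv hFr)
  let z := inv p ≫ ι
  have hz : z ≫ (RelSpecLib.symAlg (dd N)).π = 𝟙 S := by rw [Category.assoc, wι, IsIso.inv_hom_id]
  haveI : IsClosedImmersion z := inferInstanceAs (IsClosedImmersion (inv p ≫ ι))
  obtain ⟨e₁⟩ := nonempty_pullback_dd (RelSpecLib.symAlg (dd N)).π (hflf hM)
  haveI := LeffEtLib.isIso_bidual (hflf hN)
  let e := e₁.symm ≪≫ (Scheme.Modules.pullback (RelSpecLib.symAlg (dd N)).π).mapIso (asIso (LeffEtLib.bidual N)).symm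
  refine ⟨_, _, z, _, inferInstance, hz, hc.locTriv hEr,
    BivarLib.isZeroSchemeOf_mapSec (isInvertible_dd (AmpleLib.isInvertible_pullback _ hM)) e _
      (isZeroSchemeOf_iso (asIso p) z (by rw [show (asIso p).hom ≫ z = ι from IsIso.hom_inv_id_assoc p ι]; exact hzero)),
    fun y => ?_⟩
  obtain ⟨v, hv, hout⟩ := exists_notMem_range hc hcF hEr hFr ι wι y
  exact ⟨v, hv, fun ⟨x, hx⟩ => hout ⟨inv p x, by rw [← hx]; exact (Scheme.Hom.comp_apply _ _ _).symm⟩⟩

end Groth.Agent.DeformLib
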