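import Groth.Agent.CycLib.Shift
import Groth.Agent.CycLib.FlatShift
import Groth.Agent.CycLib.Closed
import Groth.Agent.CycLib.GysinBC
import Groth.Agent.CycLib.SetupLft
import Groth.Agent.FlatLocus.FibreStalk
import Groth.Agent.VBundLib.Free
import Groth.Agent.S0395

/-!
# Sections with nonzero restriction to every fibre of an affine bundle
-/

set_option autoImplicit false
set_option backward.isDefEq.respectTransparency false
set_option linter.style.haveILetI false

universe u

open CategoryTheory CategoryTheory.Limits AlgebraicGeometry TopologicalSpace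

noncomputable section

namespace Groth.Agent.DeformLib

open CycLib
open CycLib.AffBundle (Idx LocTriv)

variable {E S : Scheme.{u}} {π : E ⟶ S} {r : ℕ} (hπ : LocTriv π r)
  {L : E.Modules} (hL : PicF.IsInvertible L) {τ : L.presheaf.obj (Opposite.op ⊤)} {Z : Scheme.{u}} (j : Z ⟶ E)
  [IsClosedImmersion j] (hj : Cyc.IsZeroSchemeOf j L τ) (hne : ∀ y : S, ∃ v : E, π v = y ∧ v ∉ Set.range j)

include hπ hne in
/-- The generic point of a fibre is outside the zero scheme. -/
theorem exists_generic (v : E) :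
    ∃ η : E, η ⤳ v ∧ π η = π v ∧ MaxFib π η ∧ η ∉ Set.range j ∧ (fibIdeal π v).IsPrime := by
  obtain ⟨e⟩ := CycLib.AffBundle.nonempty_fibre_iso hπ (π v)
  haveI : IsIntegral (π.fiber (π v)) := CycLib.AffBundle.isIntegral_poly e
  have hmem : ∀ w : E, π w = π v → ∃ z, π.fiberι (π v) z = w := fun w hw => by
    show w ∈ Set.range (π.fiberι (π v))
    rw [Scheme.Hom.range_fiberι]
    exact hw
  have hy : ∀ z, π (π.fiberι (π v) z) = π v := fun z => by
    have : π.fiberι (π v) z ∈ Set.range (π.fiberι (π v)) := ⟨z, rfl⟩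
    rw [Scheme.Hom.range_fiberι] at this
    exact this
  obtain ⟨z, hz⟩ := hmem v rfl
  refine ⟨π.fiberι (π v) (genericPoint _), ?_, hy _, fun w hw hwη => ?_, ?_, ?_⟩
  · have h := (genericPoint_specializes z).map (π.fiberι (π v)).continuous
    rwa [hz] at h
  · obtain ⟨z', rfl⟩ := hmem w (hw.trans (hy _))
    have h := (π.fiberι (π v)).isEmbedding.isInducing.specializes_iff.1 hwη
    rw [(h.antisymm (genericPoint_specializes z')).eq]
  · intro hη
    obtain ⟨w, hw, hout⟩ := hne (π v)
    obtain ⟨z', rfl⟩ := hmem w hw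
    exact hout (((genericPoint_specializes z').map (π.fiberι (π v)).continuous).mem_closed
      j.isClosedEmbedding.isClosed_range hη)
  · have h : (RingHom.ker ((π.fiberι (π v)).stalkMap z).hom).IsPrime := RingHom.ker_isPrime _
    rw [FlatLocus.ker_fiberι_stalkMap] at h
    have key : ∀ w : E, w = v → (fibIdeal π w).IsPrime → (fibIdeal π v).IsPrime := by
      rintro _ rfl h
      exact h
    exact key _ hz h

include hπ hj hL hne in
/-- The equation is nonzero on every fibre. -/
theorem exists_eqn (v : E) :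
    ∃ (t : L.presheaf.stalk v) (f : E.presheaf.stalk v), Function.Bijective (fun a : E.presheaf.stalk v => a • t) ∧
      L.presheaf.germ ⊤ v trivial τ = f • t ∧ f ∉ fibIdeal π v ∧
      ∀ d : Z, j d = v → f ∈ IsLocalRing.maximalIdeal (E.presheaf.stalk v) := by
  obtain ⟨η, hηv, hηy, -, hηj, -⟩ := exists_generic hπ j hne v
  obtain ⟨t, ht⟩ := exists_genAt hL v
  have htv : Function.Bijective fun a : E.presheaf.stalk v => a • t := by
    have := ht v specializes_rfl
    rwa [TopCat.Presheaf.stalkSpecializes_refl] at this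
  obtain ⟨f, hf⟩ := htv.2 (L.presheaf.germ ⊤ v trivial τ)
  refine ⟨t, f, htv, hf.symm, fun hfi => ?_, fun d hd => ?_⟩
  · apply hηj
    rw [hj.1]
    show (Submodule.Quotient.mk _ : Cyc.secFibre L η) = 0
    rw [show L.presheaf.germ ⊤ η trivial τ = L.presheaf.stalkSpecializes hηv (L.presheaf.germ ⊤ v trivial τ) from
      (TopCat.Presheaf.germ_stalkSpecializes_apply L.presheaf (U := ⊤) trivial hηv τ).symm, ← hf,
      RefOne.stalkSpecializes_smul, Submodule.Quotient.mk_smul]
    let P : PrimeSpectrum (E.presheaf.stalk v) := ⟨RingHom.ker (Cyc.specMap v η hηv), inferInstance⟩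
    have hP : fibIdeal π v ≤ P.asIdeal := by
      rw [← apply_fromSpecStalk_eq_iff, fromSpecStalk_ker hηv, hηy]
    have h0 : E.residue η (E.presheaf.stalkSpecializes hηv f) = 0 := hP hfi
    show _ • mkF L η _ = 0
    rw [smul_mkF_eq_zero_iff (ht η hηv)]
    exact h0
  · have h0 : (Submodule.Quotient.mk (L.presheaf.germ ⊤ v trivial τ) : Cyc.secFibre L v) = 0 := by
      have h : v ∈ Set.range j := ⟨d, hd⟩
      rw [hj.1] at h
      exact h
    rw [← hf, Submodule.Quotient.mk_smul] at h0
    exact (IsLocalRing.residue_eq_zero_iff f).1 ((smul_mkF_eq_zero_iff htv f).1 h0)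

variable [IsLocallyNoetherian S]

include hπ hj hL hne in
/-- The equation is regular on the bundle and cuts out a flat scheme over the base. -/
theorem regular_flat : (∀ v : E, Function.Injective fun a : E.presheaf.stalk v => a • L.presheaf.germ ⊤ v trivial τ) ∧
    Flat (j ≫ π) ∧ LocallyOfFiniteType (j ≫ π) := by
  obtain ⟨_, _, _, _⟩ := VBundLib.isAffineHom_of_locTriv hπ
  haveI := LocallyOfFiniteType.isLocallyNoetherian π
  have key : ∀ (v : E) (f : E.presheaf.stalk v), f ∉ fibIdeal π v →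
      f ∈ nonZeroDivisors _ ∧ RingHom.Flat ((Ideal.Quotient.mk (Ideal.span {f})).comp (π.stalkMap v).hom) := by
    intro v f hf
    obtain ⟨-, -, -, -, -, hprime⟩ := exists_generic hπ j hne v
    letI := (π.stalkMap v).hom.toAlgebra
    haveI : Module.Flat (S.presheaf.stalk (π v)) (E.presheaf.stalk v) := Flat.stalkMap π v
    haveI : IsLocalHom (algebraMap (S.presheaf.stalk (π v)) (E.presheaf.stalk v)) :=
      inferInstanceAs (IsLocalHom (π.stalkMap v).hom)
    haveI : (fibIdeal π v).IsPrime := hprime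
    obtain ⟨h1, h2⟩ := S0395.result (R := S.presheaf.stalk (π v)) f (by
      refine mem_nonZeroDivisors_of_ne_zero fun e => hf ?_
      exact Ideal.Quotient.eq_zero_iff_mem.1 e)
    exact ⟨h2, h1⟩
  refine ⟨fun v => ?_, Flat.of_stalkMap _ fun d => ?_, inferInstance⟩
  · obtain ⟨t, f, ht, hf, hfi, -⟩ := exists_eqn hπ hL j hj hne v
    intro a b h
    simp only [hf, smul_smul] at h
    exact (mul_cancel_right_mem_nonZeroDivisors (key v f hfi).1).1 (ht.1 h)
  · obtain ⟨t, f, ht, hf, hfi, -⟩ := exists_eqn hπ hL j hj hne (j d)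
    obtain ⟨t', f', ht', hf', hker⟩ := hj.2 d
    have hspan := span_coeff_eq ht ht' hf hf'
    rw [← hspan] at hker
    rw [Scheme.Hom.stalkMap_comp]
    show RingHom.Flat ((j.stalkMap d).hom.comp (π.stalkMap (j d)).hom)
    let e := (Ideal.quotEquivOfEq hker.symm).trans
      (RingHom.quotientKerEquivOfSurjective (j.stalkMap_surjective d))
    have he : (j.stalkMap d).hom = e.toRingHom.comp (Ideal.Quotient.mk (Ideal.span {f})) :=
      RingHom.ext fun a => rfl
    rw [he, RingHom.comp_assoc]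
    exact RingHom.Flat.comp (key (j d) f hfi).2 (RingHom.Flat.of_bijective e.bijective)

include hπ hj hL hne in
/-- The zero scheme drops the relative dimension by one. -/
theorem isShift_zero {δS : S → ℤ} {δE : E → ℤ} (hS : Cyc.IsSetup S δS) (hδ : Cyc.DeltaCompat π δE δS) {r' : ℕ}
    (hr : r = r' + 1) : IsShift (j ≫ π) (fun d => δE (j d)) δS r' := by
  obtain ⟨_, _, _, _⟩ := VBundLib.isAffineHom_of_locTriv hπ
  have hE := isSetup_of_lft π hS hδ
  haveI := hE.1
  have hsh := IsShift.of_relDim hE hS r (VBundLib.hasRelDim_of_locTriv hπ) hδ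
  intro d hd
  show δE (j d) = δS ((j ≫ π) d) + r'
  rw [Scheme.Hom.comp_apply]
  obtain ⟨η, hηv, hηy, hmax, hηj, hprime⟩ := exists_generic hπ j hne (j d)
  obtain ⟨t, f, htf, hgf, hfi, hfm⟩ := exists_eqn hπ hL j hj hne (j d)
  have hne' : η ≠ j d := fun e => hηj ⟨d, e.symm⟩
  have h1 := hsh η hmax
  rw [hηy] at h1
  suffices hcov : δE η = δE (j d) + 1 by omega
  refine (hE.2.2 η (j d) hηv hne').2 fun w hηw hwv => ?_
  by_contra! hw
  have hwy : π w = π (j d) :=
    ((hwv.map π.continuous).antisymm (by rw [← hηy]; exact hηw.map π.continuous)).eq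
  obtain ⟨Q, hQ⟩ := exists_fromSpecStalk hwv
  obtain ⟨Q₀, hQ₀⟩ := exists_fromSpecStalk hηv
  let m := IsLocalRing.closedPoint (E.presheaf.stalk (j d))
  have hm : E.fromSpecStalk (j d) m = j d := Scheme.fromSpecStalk_closedPoint
  have hQle : fibIdeal π (j d) ≤ Q.asIdeal := (apply_fromSpecStalk_eq_iff π Q).1 (by rw [hQ, hwy])
  have hne₁ : Q.asIdeal ≠ fibIdeal π (j d) := fun e => by
    apply hw.1
    have h₀ : fibIdeal π (j d) ≤ Q₀.asIdeal := (apply_fromSpecStalk_eq_iff π Q₀).1 (by rw [hQ₀, hηy])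
    have : E.fromSpecStalk (j d) Q ⤳ E.fromSpecStalk (j d) Q₀ :=
      (fromSpecStalk_specializes_iff Q Q₀).2 (show Q.asIdeal ≤ Q₀.asIdeal by rw [e]; exact h₀)
    rw [hQ, hQ₀] at this
    exact (this.antisymm hηw).eq
  have hne₂ : Q.asIdeal ≠ IsLocalRing.maximalIdeal _ := fun e => by
    apply hw.2
    exact hQ.symm.trans ((congrArg (fun P => E.fromSpecStalk (j d) P) (show Q = m from PrimeSpectrum.ext e)).trans hm)
  -- the maximal ideal is minimal over the equation on the fibre
  have hmin : IsLocalRing.maximalIdeal (E.presheaf.stalk (j d)) ∈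
      (Ideal.span {f} ⊔ fibIdeal π (j d)).minimalPrimes := by
    refine ⟨⟨(IsLocalRing.maximalIdeal.isMaximal _).isPrime, sup_le ((Ideal.span_singleton_le_iff_mem _).2 (hfm d rfl))
      (fibIdeal_le π _)⟩, ?_⟩
    rintro p ⟨hp, hle⟩ -
    let P : PrimeSpectrum (E.presheaf.stalk (j d)) := ⟨p, hp⟩
    have hu : E.fromSpecStalk (j d) P ⤳ j d := by
      have := (fromSpecStalk_specializes_iff P m).2 (IsLocalRing.le_maximalIdeal hp.ne_top)
      rwa [hm] at this
    have hP' : π (E.fromSpecStalk (j d) P) = π (j d) := (apply_fromSpecStalk_eq_iff π P).2 (le_sup_right.trans hle)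
    have huj : E.fromSpecStalk (j d) P ∈ Set.range j := by
      obtain ⟨t', f', ht', hf', hker⟩ := hj.2 d
      have hle' : RingHom.ker (j.stalkMap d).hom ≤ p := by
        rw [hker, ← span_coeff_eq htf ht' hgf hf']
        exact le_sup_left.trans hle
      obtain ⟨P', hP''⟩ : P ∈ Set.range (PrimeSpectrum.comap (j.stalkMap d).hom) := by
        rw [range_comap_of_surjective _ _ (j.stalkMap_surjective d)]
        exact hle'
      refine ⟨Z.fromSpecStalk d P', ?_⟩
      rw [← hP'', ← Scheme.Hom.comp_apply, ← Scheme.SpecMap_stalkMap_fromSpecStalk, Scheme.Hom.comp_apply]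
      rfl
    obtain ⟨d', hd'⟩ := huj
    have hd'' : d' = d := hd d' (by rw [Scheme.Hom.comp_apply, Scheme.Hom.comp_apply, hd', hP'])
      (j.isEmbedding.isInducing.specializes_iff.1 (by rw [hd']; exact hu))
    have hPm : P = m := (E.fromSpecStalk (j d)).isEmbedding.injective (by rw [← hd', hd'', hm])
    exact (congrArg PrimeSpectrum.asIdeal hPm).ge
  -- Krull
  haveI : (fibIdeal π (j d)).IsPrime := hprime
  let q := Ideal.Quotient.mk (fibIdeal π (j d))
  have hmin' : (IsLocalRing.maximalIdeal _).map q ∈ ((Ideal.span {f}).map q).minimalPrimes := by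
    haveI : ((IsLocalRing.maximalIdeal (E.presheaf.stalk (j d))).map q).IsPrime :=
      Ideal.map_isPrime_of_surjective Ideal.Quotient.mk_surjective (by rw [Ideal.mk_ker]; exact fibIdeal_le π _)
    refine ⟨⟨inferInstance, Ideal.map_mono ((Ideal.span_singleton_le_iff_mem _).2 (hfm d rfl))⟩, ?_⟩
    rintro p ⟨hp, hle⟩ hpm
    have h := hmin.2 ⟨hp.comap q, sup_le ((Ideal.map_le_iff_le_comap).1 hle) (by
        refine le_trans (le_of_eq (Ideal.mk_ker (I := fibIdeal π (j d))).symm) ?_
        exact Ideal.comap_mono bot_le)⟩ (IsLocalRing.le_maximalIdeal (hp.comap q).ne_top)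
    exact Ideal.map_le_iff_le_comap.2 h
  haveI : ((Ideal.span {f}).map q).IsPrincipal := by rw [Ideal.map_span, Set.image_singleton]; infer_instance
  haveI := hmin'.1.1
  have h1' := Ideal.height_le_one_of_isPrincipal_of_mem_minimalPrimes _ _ hmin'
  haveI : (Q.asIdeal.map q).IsPrime := Ideal.map_isPrime_of_surjective Ideal.Quotient.mk_surjective (by rw [Ideal.mk_ker]; exact hQle)
  have hc : ∀ I : Ideal (E.presheaf.stalk (j d)), fibIdeal π (j d) ≤ I → (I.map q).comap q = I := fun I hI => by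
    rw [Ideal.comap_map_of_surjective _ Ideal.Quotient.mk_surjective, sup_eq_left]
    exact le_trans (le_of_eq Ideal.mk_ker) hI
  have hlt₁ : (⊥ : Ideal _) < Q.asIdeal.map q := by
    refine bot_lt_iff_ne_bot.2 fun e => hne₁ ?_
    rw [← hc _ hQle, e]
    exact Ideal.mk_ker
  have hlt₂ : Q.asIdeal.map q < (IsLocalRing.maximalIdeal _).map q := by
    refine lt_of_le_of_ne (Ideal.map_mono (IsLocalRing.le_maximalIdeal Q.2.ne_top)) fun e => hne₂ ?_
    rw [← hc _ hQle, e, hc _ (fibIdeal_le π _)]
  haveI : (⊥ : Ideal (E.presheaf.stalk (j d) ⧸ fibIdeal π (j d))).IsPrime := Ideal.isPrime_bot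
  have a1 := Ideal.height_strict_mono_of_isPrime_of_isPrime hlt₁
  have a2 := Ideal.height_strict_mono_of_isPrime_of_isPrime hlt₂
  have a3 : (Q.asIdeal.map q).height < 1 := lt_of_lt_of_le a2 h1'
  exact not_lt_zero (lt_of_lt_of_eq a1 (ENat.lt_one_iff_eq_zero.1 a3))

end Groth.Agent.DeformLib
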