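import Groth.Agent.DeformLib.Zero
import Groth.Agent.DeformLib.Fibre
import Groth.Agent.DeformLib.Bundle
import Groth.Agent.BivarLib.C1Class

/-!
# The deformation space of a zero scheme
-/

set_option autoImplicit false
set_option backward.isDefEq.respectTransparency false
set_option linter.style.haveILetI false

universe u

open CategoryTheory CategoryTheory.Limits AlgebraicGeometry TopologicalSpace
open Groth.Agent.CycLib Groth.Agent.BivarLib

noncomputable section

namespace Groth.Agent.DeformLib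

open CycLib.AffBundle (Idx LocTriv)

/-- A deformation space of `i : D ⟶ S` with respect to `L`: a plane bundle with a coordinate `t` and a section `τ`,
such that `τ` restricted to `t = 0` cuts out the preimage of `D`. -/
structure Deform {S D : Scheme.{u}} (i : D ⟶ S) (L : S.Modules) : Type (u + 1) where
  /-- the plane bundle -/
  E : Scheme.{u}
  /-- its projection -/
  π : E ⟶ S
  locE : LocTriv π (1 + 1)
  /-- the line `t = 0` -/
  T : Scheme.{u}
  /-- its inclusion -/
  jT : T ⟶ E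
  closedT : IsClosedImmersion jT
  /-- the coordinate -/
  t : (Coh.structureModule E).presheaf.obj (Opposite.op ⊤)
  zeroT : Cyc.IsZeroSchemeOf jT (Coh.structureModule E) t
  neT : ∀ y : S, ∃ v : E, π v = y ∧ v ∉ Set.range jT
  locT : LocTriv (jT ≫ π) 1
  /-- the section -/
  τ : ((Scheme.Modules.pullback π).obj L).presheaf.obj (Opposite.op ⊤)
  /-- the deformation space -/
  S' : Scheme.{u}
  /-- its inclusion -/
  jS : S' ⟶ E
  closedS : IsClosedImmersion jS
  zeroS : Cyc.IsZeroSchemeOf jS ((Scheme.Modules.pullback π).obj L) τ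
  neS : ∀ y : S, ∃ v : E, π v = y ∧ v ∉ Set.range jS
  /-- the special fibre -/
  D' : Scheme.{u}
  /-- its map to `D` -/
  p : D' ⟶ D
  /-- its inclusion in the line -/
  a : D' ⟶ T
  /-- its inclusion in the deformation space -/
  b : D' ⟶ S'
  sqD : IsPullback a b jT jS
  sqP : IsPullback a p (jT ≫ π) i
  /-- the zero section -/
  z : S ⟶ T
  closedZ : IsClosedImmersion z
  z_fac : z ≫ jT ≫ π = 𝟙 S
  /-- the normal module of the zero section -/
  N : T.Modules
  invN : PicF.IsInvertible N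
  /-- its section -/
  ν : N.presheaf.obj (Opposite.op ⊤)
  zeroZ : Cyc.IsZeroSchemeOf z N ν
  neZ : ∀ y : S, ∃ v : T, (jT ≫ π) v = y ∧ v ∉ Set.range z

/-- Points outside of a closed subscheme base change. -/
theorem exists_outside {S S'' X Z X' Z' : Scheme.{u}} {π : X ⟶ S} {f : S'' ⟶ S} {g : X' ⟶ X} {π' : X' ⟶ S''}
    (sq : IsPullback g π' π f) {j : Z ⟶ X} {j' : Z' ⟶ X'} {h : Z' ⟶ Z} (sq' : IsPullback h j' j g)
    (hne : ∀ y : S, ∃ v : X, π v = y ∧ v ∉ Set.range j) (y : S'') : ∃ v : X', π' v = y ∧ v ∉ Set.range j' := by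
  obtain ⟨v, hv, hout⟩ := hne (f y)
  obtain ⟨w, hw, hwy⟩ := Scheme.exists_preimage_of_isPullback sq v y hv
  refine ⟨w, hwy, fun ⟨z, hz⟩ => hout ⟨h z, ?_⟩⟩
  rw [← hw, ← hz, ← Scheme.Hom.comp_apply, sq'.w, Scheme.Hom.comp_apply]

/-- A zero scheme does not change when the section is multiplied by units. -/
theorem isZeroSchemeOf_congr {X Z : Scheme.{u}} {j : Z ⟶ X} {M : X.Modules} (hM : PicF.IsInvertible M)
    {s s' : M.presheaf.obj (Opposite.op ⊤)}
    (h : ∀ x : X, ∃ c : (X.presheaf.stalk x)ˣ,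
      M.presheaf.germ ⊤ x trivial s' = (c : X.presheaf.stalk x) • M.presheaf.germ ⊤ x trivial s)
    (hz : Cyc.IsZeroSchemeOf j M s) : Cyc.IsZeroSchemeOf j M s' := by
  refine ⟨hz.1.trans (Set.ext fun x => ?_), fun d => ?_⟩
  · obtain ⟨c, hc⟩ := h x
    show (Submodule.Quotient.mk _ : Cyc.secFibre M x) = 0 ↔ (Submodule.Quotient.mk _ : Cyc.secFibre M x) = 0
    rw [hc, Submodule.Quotient.mk_smul]
    exact ⟨fun h => by rw [h, smul_zero], fun h => by
      have := congrArg (fun v => ((c⁻¹ : (X.presheaf.stalk x)ˣ) : X.presheaf.stalk x) • v) h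
      simpa [smul_smul] using this⟩
  · obtain ⟨t, f, ht, hf, hk⟩ := hz.2 d
    obtain ⟨c, hc⟩ := h (j d)
    refine ⟨t, c * f, ht, by rw [hc, hf, smul_smul], ?_⟩
    rw [hk, Ideal.span_singleton_mul_left_unit c.isUnit]

variable {S D : Scheme.{u}} {i : D ⟶ S} {L : S.Modules}

/-- Deformation spaces base change. -/
def Deform.baseChange (Φ : Deform i L) (hL : PicF.IsInvertible L) {S'' D'' : Scheme.{u}} (f : S'' ⟶ S)
    {i'' : D'' ⟶ S''} {gD : D'' ⟶ D} (sq : IsPullback gD i'' i f) :
    Deform i'' ((Scheme.Modules.pullback f).obj L) :=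
  haveI := Φ.closedT
  haveI := Φ.closedS
  haveI := Φ.closedZ
  let gE : pullback Φ.π f ⟶ Φ.E := pullback.fst Φ.π f
  let π'' : pullback Φ.π f ⟶ S'' := pullback.snd Φ.π f
  have sqE : IsPullback gE π'' Φ.π f := IsPullback.of_hasPullback _ _
  let gT : pullback Φ.jT gE ⟶ Φ.T := pullback.fst Φ.jT gE
  let jT'' : pullback Φ.jT gE ⟶ pullback Φ.π f := pullback.snd Φ.jT gE
  have sqT : IsPullback gT jT'' Φ.jT gE := IsPullback.of_hasPullback _ _
  let gS : pullback Φ.jS gE ⟶ Φ.S' := pullback.fst Φ.jS gE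
  let jS'' : pullback Φ.jS gE ⟶ pullback Φ.π f := pullback.snd Φ.jS gE
  have sqS : IsPullback gS jS'' Φ.jS gE := IsPullback.of_hasPullback _ _
  have sqqT : IsPullback gT (jT'' ≫ π'') (Φ.jT ≫ Φ.π) f := sqT.paste_vert sqE
  let τ₀ := pullSec gE ((Scheme.Modules.pullback Φ.π).obj L) Φ.τ
  let eL := pullOverIso gE Φ.π (gE ≫ Φ.π) rfl L ≪≫ (pullOverIso π'' f (gE ≫ Φ.π) sqE.w.symm L).symm
  let z'' : S'' ⟶ pullback Φ.jT gE := sqqT.lift (f ≫ Φ.z) (𝟙 S'')
    (by rw [Category.assoc, Φ.z_fac, Category.comp_id, Category.id_comp])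
  have sqz : IsPullback f z'' Φ.z gT := IsPullback.of_bot
    (by
      rw [sqqT.lift_snd, Φ.z_fac]
      exact IsPullback.of_vert_isIso ⟨by simp⟩)
    (sqqT.lift_fst _ _ _).symm sqqT
  let D₁ := pullback jT'' jS''
  let a₁ : D₁ ⟶ pullback Φ.jT gE := pullback.fst jT'' jS''
  let b₁ : D₁ ⟶ pullback Φ.jS gE := pullback.snd jT'' jS''
  let k : D₁ ⟶ Φ.D' := Φ.sqD.lift (a₁ ≫ gT) (b₁ ≫ gS) (by
    rw [Category.assoc, sqT.w, Category.assoc, sqS.w, ← Category.assoc, ← Category.assoc]
    exact congrArg (· ≫ gE) pullback.condition)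
  have hk₁ : k ≫ Φ.a = a₁ ≫ gT := Φ.sqD.lift_fst _ _ _
  have hk₂ : k ≫ Φ.b = b₁ ≫ gS := Φ.sqD.lift_snd _ _ _
  have sqb : IsPullback k b₁ Φ.b gS := IsPullback.of_right
    (by rw [hk₁, sqS.w]; exact (IsPullback.of_hasPullback jT'' jS'').paste_horiz sqT) hk₂ Φ.sqD
  have sqk : IsPullback k a₁ Φ.a gT := IsPullback.of_bot
    (by
      rw [Φ.sqD.w, show a₁ ≫ jT'' = b₁ ≫ jS'' from pullback.condition]
      exact sqb.paste_vert sqS) hk₁ sqT
  have sqkT := sqk.paste_vert sqqT
  let p₁ : D₁ ⟶ D'' := sq.lift (k ≫ Φ.p) (a₁ ≫ jT'' ≫ π'') (by rw [Category.assoc, ← Φ.sqP.w, sqkT.w])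
  have hp₁ : p₁ ≫ gD = k ≫ Φ.p := sq.lift_fst _ _ _
  have hp₂ : p₁ ≫ i'' = a₁ ≫ jT'' ≫ π'' := sq.lift_snd _ _ _
  have sqp : IsPullback k p₁ Φ.p gD := IsPullback.of_bot (by rw [hp₂, ← Φ.sqP.w]; exact sqkT) hp₁.symm sq
  have sqP'' : IsPullback a₁ p₁ (jT'' ≫ π'') i'' := IsPullback.of_right
    (by rw [← hk₁, ← sq.w]; exact sqp.paste_horiz Φ.sqP) hp₂.symm sqqT
  { E := pullback Φ.π f
    π := π''
    locE := locTriv_baseChange Φ.locE sqE
    T := pullback Φ.jT gE
    jT := jT''
    closedT := MorphismProperty.of_isPullback sqT Φ.closedT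
    t := (AmpleLib.pullO gE).hom.app ⊤ (pullSec gE _ Φ.t)
    zeroT := isZeroSchemeOf_mapSec (AmpleLib.isInvertible_pullback gE ParaFLib.isInvertible_structureModule)
      (AmpleLib.pullO gE) _ (isZeroSchemeOf_of_isPullback gE ParaFLib.isInvertible_structureModule Φ.zeroT sqT.flip)
    neT := exists_outside sqE sqT Φ.neT
    locT := locTriv_baseChange Φ.locT sqqT
    τ := eL.hom.app ⊤ τ₀
    S' := pullback Φ.jS gE
    jS := jS''
    closedS := MorphismProperty.of_isPullback sqS Φ.closedS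
    zeroS := isZeroSchemeOf_mapSec (AmpleLib.isInvertible_pullback gE (AmpleLib.isInvertible_pullback Φ.π hL))
      eL _ (isZeroSchemeOf_of_isPullback gE (AmpleLib.isInvertible_pullback Φ.π hL) Φ.zeroS sqS.flip)
    neS := exists_outside sqE sqS Φ.neS
    D' := D₁
    p := p₁
    a := a₁
    b := b₁
    sqD := IsPullback.of_hasPullback jT'' jS''
    sqP := sqP''
    z := z''
    closedZ := MorphismProperty.of_isPullback sqz Φ.closedZ
    z_fac := sqqT.lift_snd _ _ _
    N := (Scheme.Modules.pullback gT).obj Φ.N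
    invN := AmpleLib.isInvertible_pullback gT Φ.invN
    ν := pullSec gT Φ.N Φ.ν
    zeroZ := isZeroSchemeOf_of_isPullback gT Φ.invN Φ.zeroZ sqz.flip
    neZ := exists_outside sqqT sqz Φ.neZ }

/-- Deformation spaces exist. -/
theorem exists_deform {S D : Scheme.{u}} [IsLocallyNoetherian S] {L : S.Modules} (hL : PicF.IsInvertible L)
    {σ : L.presheaf.obj (Opposite.op ⊤)} (i : D ⟶ S) [IsClosedImmersion i] (hD : Cyc.IsZeroSchemeOf i L σ) :
    Nonempty (Deform i L) := by
  obtain ⟨T, q, z, u, hzc, hzq, hq, hu, hune⟩ := exists_lineBundle hL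
  obtain ⟨A, qA, zA, uA, hzAc, hzAq, hqA, huA, hAne⟩ :=
    exists_lineBundle (S := S) (N := Coh.structureModule S) ParaFLib.isInvertible_structureModule
  haveI := hzc
  haveI := hzAc
  let π : pullback q qA ⟶ S := pullback.fst q qA ≫ q
  have hE : LocTriv π (1 + 1) := locTriv_prod hq hqA
  have sqE : IsPullback (pullback.fst q qA) (pullback.snd q qA) q qA := IsPullback.of_hasPullback _ _
  let jT : T ⟶ pullback q qA := pullback.lift (𝟙 T) (q ≫ zA) (by rw [Category.id_comp, Category.assoc, hzAq, Category.comp_id])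
  have hjT : jT ≫ π = q := by rw [← Category.assoc, pullback.lift_fst, Category.id_comp]
  haveI : IsClosedImmersion jT := by
    have h : IsPullback q jT zA (pullback.snd q qA) := IsPullback.of_bot
      (by rw [pullback.lift_fst, hzAq]; exact IsPullback.of_vert_isIso ⟨by simp⟩) (pullback.lift_snd _ _ _).symm sqE.flip
    exact MorphismProperty.of_isPullback h (inferInstance : IsClosedImmersion zA)
  have sqTz : IsPullback q jT zA (pullback.snd q qA) := IsPullback.of_bot
    (by rw [pullback.lift_fst, hzAq]; exact IsPullback.of_vert_isIso ⟨by simp⟩) (pullback.lift_snd _ _ _).symm sqE.flip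
  have hO : PicF.IsInvertible (Coh.structureModule S) := ParaFLib.isInvertible_structureModule
  let eA := (Scheme.Modules.pullback (pullback.snd q qA)).mapIso (AmpleLib.pullO qA) ≪≫ AmpleLib.pullO (pullback.snd q qA)
  let t : (Coh.structureModule (pullback q qA)).presheaf.obj (Opposite.op ⊤) :=
    eA.hom.app ⊤ (pullSec (pullback.snd q qA) _ uA)
  have hzt : Cyc.IsZeroSchemeOf jT (Coh.structureModule (pullback q qA)) t :=
    isZeroSchemeOf_mapSec (AmpleLib.isInvertible_pullback _ (AmpleLib.isInvertible_pullback qA hO)) eA _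
      (isZeroSchemeOf_of_isPullback (pullback.snd q qA) (AmpleLib.isInvertible_pullback qA hO) huA sqTz.flip)
  have hneT : ∀ y : S, ∃ v : ↥(pullback q qA), π v = y ∧ v ∉ Set.range jT := fun y => by
    obtain ⟨vT, hvT, -⟩ := hune y
    obtain ⟨vA, hvA, hout⟩ := hAne y
    obtain ⟨w, hw₁, hw₂⟩ := Scheme.Pullback.exists_preimage_pullback (f := q) (g := qA) vT vA (hvT.trans hvA.symm)
    refine ⟨w, by rw [Scheme.Hom.comp_apply, hw₁, hvT], fun ⟨x, hx⟩ => hout ⟨q x, ?_⟩⟩
    rw [← hw₂, ← hx, ← Scheme.Hom.comp_apply, ← Scheme.Hom.comp_apply, pullback.lift_snd]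
  -- the tautological section upstairs
  let eU := pullOverIso (pullback.fst q qA) q π rfl L
  let uE := eU.hom.app ⊤ (pullSec (pullback.fst q qA) _ u)
  let jU : pullback (pullback.fst q qA) z ⟶ pullback q qA := pullback.fst _ _
  have hzU : Cyc.IsZeroSchemeOf jU ((Scheme.Modules.pullback π).obj L) uE :=
    isZeroSchemeOf_mapSec (AmpleLib.isInvertible_pullback _ (AmpleLib.isInvertible_pullback q hL)) eU _
      (isZeroSchemeOf_of_isPullback (pullback.fst q qA) (AmpleLib.isInvertible_pullback q hL) hu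
        (IsPullback.of_hasPullback _ _))
  have hneU : ∀ y : S, ∃ v : ↥(pullback q qA), π v = y ∧ v ∉ Set.range jU := fun y => by
    obtain ⟨vT, hvT, hout⟩ := hune y
    obtain ⟨vA, hvA, -⟩ := hAne y
    obtain ⟨w, hw₁, -⟩ := Scheme.Pullback.exists_preimage_pullback (f := q) (g := qA) vT vA (hvT.trans hvA.symm)
    refine ⟨w, by rw [Scheme.Hom.comp_apply, hw₁, hvT], fun ⟨x, hx⟩ => hout ⟨pullback.snd _ z x, ?_⟩⟩
    rw [← hw₁, ← hx, ← Scheme.Hom.comp_apply, ← Scheme.Hom.comp_apply, pullback.condition]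
  have hM : PicF.IsInvertible ((Scheme.Modules.pullback π).obj L) := AmpleLib.isInvertible_pullback π hL
  let sE := pullSec π L σ
  have hzD : Cyc.IsZeroSchemeOf (pullback.fst π i) ((Scheme.Modules.pullback π).obj L) sE := isZeroSchemeOf_pullSec π hL hD
  let tr : Γ(pullback q qA, ⊤) := t
  let τ : ((Scheme.Modules.pullback π).obj L).presheaf.obj (Opposite.op ⊤) := tr • uE - sE
  have hgerm : ∀ x, ((Scheme.Modules.pullback π).obj L).presheaf.germ ⊤ x trivial τ =
      (pullback q qA).presheaf.germ ⊤ x trivial tr • ((Scheme.Modules.pullback π).obj L).presheaf.germ ⊤ x trivial uE -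
        ((Scheme.Modules.pullback π).obj L).presheaf.germ ⊤ x trivial sE := fun x => by
    show ((Scheme.Modules.pullback π).obj L).presheaf.germ ⊤ x trivial (tr • uE - sE) = _
    rw [map_sub, ParaFLib.germ_smul']
  obtain ⟨S', jS, hjSc, hjS⟩ := exists_zeroScheme hM τ
  haveI := hjSc
  -- the coordinate vanishes on the line
  have htT : ∀ x : T, jT.stalkMap x ((pullback q qA).presheaf.germ ⊤ (jT x) trivial tr) = 0 := fun x => by
    obtain ⟨t', f, -, hf, hk⟩ := hzt.2 x
    obtain ⟨c, rfl⟩ := (ParaFLib.bijective_oneG (jT x)).2 t'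
    have e1 : (Coh.structureModule (pullback q qA)).presheaf.germ ⊤ (jT x) trivial t =
        (pullback q qA).presheaf.germ ⊤ (jT x) trivial tr • LocFreeHomLib.one' (jT x) := by
      rw [LocFreeHomLib.one', ← ParaFLib.germ_smul']
      exact congrArg _ (mul_one tr).symm
    rw [e1, smul_smul] at hf
    rw [(ParaFLib.bijective_oneG (jT x)).1 hf]
    refine RingHom.mem_ker.1 ?_
    rw [hk]
    exact Ideal.mul_mem_right _ _ (Ideal.mem_span_singleton_self f)
  -- the special fibre
  let P := pullback (jT ≫ π) i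
  have sqP : IsPullback (pullback.fst (jT ≫ π) i) (pullback.snd (jT ≫ π) i) (jT ≫ π) i := IsPullback.of_hasPullback _ _
  let g₀ : P ⟶ pullback π i := pullback.lift (pullback.fst _ _ ≫ jT) (pullback.snd _ _) (by rw [Category.assoc, pullback.condition])
  have sq₀ : IsPullback g₀ (pullback.fst (jT ≫ π) i) (pullback.fst π i) jT := IsPullback.of_right
    (by rw [pullback.lift_snd]; exact sqP.flip) (pullback.lift_fst _ _ _) (IsPullback.of_hasPullback π i).flip
  have hP : Cyc.IsZeroSchemeOf (pullback.fst (jT ≫ π) i) ((Scheme.Modules.pullback jT).obj ((Scheme.Modules.pullback π).obj L))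
      (pullSec jT _ τ) := by
    refine isZeroSchemeOf_congr (AmpleLib.isInvertible_pullback jT hM) (fun x => ⟨-1, ?_⟩)
      (isZeroSchemeOf_of_isPullback jT hM hzD sq₀.flip)
    rw [germ_pullSec, germ_pullSec, hgerm, map_sub, PullbackMod.pullStalk_smul, htT, zero_smul, zero_sub, Units.val_neg,
      Units.val_one, neg_one_smul]
  obtain ⟨b, sqD⟩ := isPullback_of_zeroScheme hM jS hjS jT (pullback.fst (jT ≫ π) i) hP
  have hSne : ∀ y : S, ∃ v : ↥(pullback q qA), π v = y ∧ v ∉ Set.range jS := fun y => by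
    obtain ⟨v₀, hv₀, -⟩ := hneT y
    subst hv₀
    by_cases hy : π v₀ ∈ Set.range i
    · obtain ⟨η, hηv, hηy, hηmax, hηT, -⟩ := exists_generic hE jT hneT v₀
      obtain ⟨η', hη'η, hη'y, -, hη'U, -⟩ := exists_generic hE jU hneU η
      obtain rfl := hηmax η' hη'y hη'η
      refine ⟨η', hηy, fun hη => ?_⟩
      rw [hjS.1] at hη
      have h1 : (Submodule.Quotient.mk (((Scheme.Modules.pullback π).obj L).presheaf.germ ⊤ η' trivial sE) :
          Cyc.secFibre ((Scheme.Modules.pullback π).obj L) η') = 0 := by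
        obtain ⟨d, hd⟩ := hy
        obtain ⟨w, hw, -⟩ := Scheme.Pullback.exists_preimage_pullback (f := π) (g := i) η' d (hηy.trans hd.symm)
        have h : η' ∈ Set.range (pullback.fst π i) := ⟨w, hw⟩
        rw [hzD.1] at h
        exact h
      have h2 : (Submodule.Quotient.mk _ : Cyc.secFibre ((Scheme.Modules.pullback π).obj L) η') = 0 := hη
      rw [hgerm, Submodule.Quotient.mk_sub, h1, sub_zero, Submodule.Quotient.mk_smul] at h2
      have hu' : IsUnit ((pullback q qA).presheaf.germ ⊤ η' trivial tr) := by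
        by_contra hnu
        apply hηT
        rw [hzt.1]
        show (Submodule.Quotient.mk _ : Cyc.secFibre (Coh.structureModule (pullback q qA)) η') = 0
        have e1 : (Coh.structureModule (pullback q qA)).presheaf.germ ⊤ η' trivial t =
            (pullback q qA).presheaf.germ ⊤ η' trivial tr • LocFreeHomLib.one' η' := by
          rw [LocFreeHomLib.one', ← ParaFLib.germ_smul']
          exact congrArg _ (mul_one tr).symm
        rw [e1, Submodule.Quotient.mk_smul]
        refine (smul_mkF_eq_zero_iff (ParaFLib.bijective_oneG η') _).2 ?_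
        exact (IsLocalRing.residue_eq_zero_iff _).2 hnu
      obtain ⟨c, hc⟩ := hu'
      have h3 := congrArg (fun v => ((c⁻¹ : ((pullback q qA).presheaf.stalk η')ˣ) : (pullback q qA).presheaf.stalk η') • v) h2
      rw [smul_smul, ← hc, Units.inv_mul, one_smul, smul_zero] at h3
      exact hη'U (hzU.1.ge h3)
    · obtain ⟨vT, hvT, -⟩ := hune (π v₀)
      refine ⟨jT vT, by rw [← Scheme.Hom.comp_apply, hjT, hvT], fun ⟨x, hx⟩ => hy ?_⟩
      obtain ⟨w, hw, -⟩ := Scheme.exists_preimage_of_isPullback sqD vT x hx.symm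
      refine ⟨pullback.snd (jT ≫ π) i w, ?_⟩
      rw [← Scheme.Hom.comp_apply, ← sqP.w, Scheme.Hom.comp_apply, hw, hjT, hvT]
  exact ⟨{
    E := pullback q qA
    π := π
    locE := hE
    T := T
    jT := jT
    closedT := inferInstance
    t := t
    zeroT := hzt
    neT := hneT
    locT := by rw [hjT]; exact hq
    τ := τ
    S' := S'
    jS := jS
    closedS := hjSc
    zeroS := hjS
    neS := hSne
    D' := P
    p := pullback.snd (jT ≫ π) i
    a := pullback.fst (jT ≫ π) i
    b := b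
    sqD := sqD
    sqP := sqP
    z := z
    closedZ := hzc
    z_fac := by rw [hjT, hzq]
    N := (Scheme.Modules.pullback q).obj L
    invN := AmpleLib.isInvertible_pullback q hL
    ν := u
    zeroZ := hu
    neZ := by rw [hjT]; exact hune }⟩

end Groth.Agent.DeformLib
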