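import Mathlib
import Groth.Agent.LocFlat.Fibre
import Groth.Agent.CAlgBasics.UnivInj

/-! The local flatness criterion over a local ring with nilpotent maximal ideal, without finiteness. -/

set_option autoImplicit false

noncomputable section

namespace Groth.Agent.DeformLib

open IsLocalRing TensorProduct

universe u

variable {R : Type u} [CommRing R] [IsLocalRing R]
variable {N M : Type u} [AddCommGroup N] [Module R N] [AddCommGroup M] [Module R M]

omit [IsLocalRing R] in
theorem exists_smul_mk {B : Type u} [AddCommGroup B] [Module R B] (𝔞 : Ideal R) (x : B)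
    (hx : Ideal.Quotient.mk 𝔞 1 ⊗ₜ[R] x = 0) : x ∈ (𝔞 • ⊤ : Submodule R B) := by
  have e : quotTensorEquivQuotSMul B 𝔞 (Ideal.Quotient.mk 𝔞 1 ⊗ₜ[R] x) = Submodule.Quotient.mk ((1 : R) • x) :=
    quotTensorEquivQuotSMul_mk_tmul _ _ _
  rw [hx, map_zero, one_smul, eq_comm, Submodule.Quotient.mk_eq_zero] at e
  exact e

omit [IsLocalRing R] in
/-- An injection with flat cokernel reflects membership in `𝔞 • ⊤`. -/
theorem mem_smul_of_flat_coker (u : N →ₗ[R] M) (hu : Function.Injective u)
    [Module.Flat R (M ⧸ LinearMap.range u)] (𝔞 : Ideal R) {x : N} (h : u x ∈ (𝔞 • ⊤ : Submodule R M)) :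
    x ∈ (𝔞 • ⊤ : Submodule R N) := by
  refine exists_smul_mk 𝔞 x ?_
  apply LinearMap.lTensor_injective_of_exact_of_flat (LinearMap.range u).mkQ (Submodule.mkQ_surjective _) u hu
    (LinearMap.exact_map_mkQ_range u) (R ⧸ 𝔞)
  rw [map_zero, LinearMap.lTensor_tmul]
  apply (quotTensorEquivQuotSMul M 𝔞).injective
  rw [map_zero, quotTensorEquivQuotSMul_mk_tmul, one_smul, Submodule.Quotient.mk_eq_zero]
  exact h

omit [IsLocalRing R] in
theorem flat_range_of_flat_coker (u : N →ₗ[R] M) (hu : Function.Injective u) [Module.Flat R M]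
    [Module.Flat R (M ⧸ LinearMap.range u)] : Module.Flat R N :=
  CAlgBasics.flat_of_universallyInjective_of_flat (f := u)
    (CAlgBasics.universallyInjective_of_flat_coker hu (LinearMap.exact_map_mkQ_range u) (Submodule.mkQ_surjective _))

omit [IsLocalRing R] in
theorem flat_submodule (K : Submodule R M) [Module.Flat R M] [Module.Flat R (M ⧸ K)] : Module.Flat R K := by
  haveI : Module.Flat R (M ⧸ LinearMap.range K.subtype) :=
    Module.Flat.of_linearEquiv (Submodule.quotEquivOfEq (LinearMap.range K.subtype) K (Submodule.range_subtype K))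
  exact flat_range_of_flat_coker K.subtype Subtype.val_injective

/-- Fibrewise injective into a flat module: universally injective. -/
theorem rTensor_injective_of_nilpotent (hm : IsNilpotent (maximalIdeal R)) [Module.Flat R M] (u : N →ₗ[R] M)
    (h : Function.Injective (u.lTensor (ResidueField R))) (Q : Type u) [AddCommGroup Q] [Module R Q] :
    Function.Injective (u.rTensor Q) := by
  let m := maximalIdeal R
  rw [injective_iff_map_eq_zero]
  intro x hx
  suffices H : ∀ n : ℕ, x ∈ LinearMap.range ((m ^ n • ⊤ : Submodule R Q).subtype.lTensor N) by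
    obtain ⟨n, hn⟩ := hm
    obtain ⟨w, rfl⟩ := H n
    have h0 : (m ^ n • ⊤ : Submodule R Q).subtype = 0 := LinearMap.ext fun q => by
      have h1 : (q : Q) ∈ (m ^ n • ⊤ : Submodule R Q) := q.2
      simpa [m, hn] using h1
    rw [h0, LinearMap.lTensor_zero, LinearMap.zero_apply]
  intro n
  induction n with
  | zero =>
    obtain ⟨w, hw⟩ := LinearMap.lTensor_surjective N
      (g := (m ^ 0 • ⊤ : Submodule R Q).subtype) (fun q => ⟨⟨q, by simp⟩, rfl⟩) x
    exact ⟨w, hw⟩
  | succ n ih =>
    obtain ⟨w, rfl⟩ := ih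
    let Qn : Submodule R Q := m ^ n • ⊤
    let U : Submodule R Qn := m • ⊤
    have h0 : u.rTensor Qn w = 0 := by
      apply Module.Flat.lTensor_preserves_injective_linearMap (M := M) Qn.subtype Qn.subtype_injective
      rw [map_zero, ← LinearMap.comp_apply, LinearMap.lTensor_comp_rTensor,
        ← LinearMap.rTensor_comp_lTensor, LinearMap.comp_apply]
      exact hx
    have hP : Function.Injective (u.rTensor (Qn ⧸ U)) :=
      (LinearMap.lTensor_inj_iff_rTensor_inj _ _).mp (LocFlat.lTensor_injective_of_residue u h)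
    have h1 : U.mkQ.lTensor N w = 0 := by
      apply hP
      rw [map_zero, ← LinearMap.comp_apply, LinearMap.rTensor_comp_lTensor,
        ← LinearMap.lTensor_comp_rTensor, LinearMap.comp_apply, h0, map_zero]
    obtain ⟨v, hv⟩ := (lTensor_exact N (LinearMap.exact_subtype_mkQ U) U.mkQ_surjective w).mp h1
    have hle : U.map Qn.subtype ≤ (m ^ (n + 1) • ⊤ : Submodule R Q) := by
      rw [Submodule.map_smul'', Submodule.map_top, Submodule.range_subtype]
      show m • m ^ n • (⊤ : Submodule R Q) ≤ _
      rw [← Submodule.mul_smul, ← pow_succ']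
    let j : U →ₗ[R] (m ^ (n + 1) • ⊤ : Submodule R Q) :=
      LinearMap.codRestrict _ (Qn.subtype ∘ₗ U.subtype) fun z => hle ⟨z.1, z.2, rfl⟩
    refine ⟨j.lTensor N v, ?_⟩
    rw [← hv, ← LinearMap.lTensor_comp_apply, ← LinearMap.lTensor_comp_apply]
    rfl

/-- Fibrewise injective into a flat module: injective with flat cokernel. -/
theorem injective_flat_of_nilpotent (hm : IsNilpotent (maximalIdeal R)) [Module.Flat R M] (u : N →ₗ[R] M)
    (h : ∀ x, u x ∈ (maximalIdeal R • ⊤ : Submodule R M) → x ∈ (maximalIdeal R • ⊤ : Submodule R N)) :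
    Function.Injective u ∧ Module.Flat R (M ⧸ LinearMap.range u) := by
  have key := rTensor_injective_of_nilpotent hm u (LocFlat.lTensor_residue_injective u h)
  refine ⟨?_, CAlgBasics.flat_coker_of_injective_rTensor_quotient
    (LinearMap.exact_map_mkQ_range u) (Submodule.mkQ_surjective _) fun I _ => key (R ⧸ I)⟩
  intro a b hab
  have h1 := key R (a₁ := a ⊗ₜ 1) (a₂ := b ⊗ₜ 1) (by simp [hab])
  simpa using congrArg (TensorProduct.rid R N) h1

/-- Nilpotent Nakayama for ideals. -/
theorem le_of_le_sup_nilpotent {A : Type u} [CommRing A] {𝔫 I K : Ideal A} (hn : IsNilpotent 𝔫)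
    (h : I ≤ K ⊔ 𝔫 * I) : I ≤ K := by
  obtain ⟨n, hn⟩ := hn
  have : ∀ j, I ≤ K ⊔ 𝔫 ^ j * I := fun j => by
    induction j with
    | zero => simp
    | succ j ih =>
      refine h.trans (sup_le le_sup_left ((Ideal.mul_mono le_rfl ih).trans ?_))
      rw [Ideal.mul_sup, pow_succ', mul_assoc]
      exact sup_le_sup Ideal.mul_le_right le_rfl
  refine (this n).trans (sup_le le_rfl ?_)
  rw [hn]
  simp

end Groth.Agent.DeformLib
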