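import Mathlib
import Groth.Agent.DeformLib.NilpLocal
import Groth.Agent.FlatSecLib.DepthTwo
import Groth.Agent.PurityLib.OpenPurity
import Groth.Agent.S2471

/-! Maximal minors of a `(r+1) × r` matrix: Cramer identities and lifting of resolutions. -/

set_option autoImplicit false

noncomputable section

namespace Groth.Agent.DeformLib

open IsLocalRing Matrix

universe u

variable {A : Type u} [CommRing A] {r : ℕ}

/-- The signed maximal minors. -/
def mnr (φ : Matrix (Fin (r + 1)) (Fin r) A) (i : Fin (r + 1)) : A :=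
  (-1) ^ (i : ℕ) * (φ.submatrix i.succAbove id).det

theorem mnr_map {B : Type u} [CommRing B] (g : A →+* B) (φ : Matrix (Fin (r + 1)) (Fin r) A) (i : Fin (r + 1)) :
    mnr (φ.map g) i = g (mnr φ i) := by
  rw [mnr, mnr, map_mul, map_pow, map_neg, map_one, RingHom.map_det]
  rfl

/-- `φ` with the column `v` in front. -/
def aug (v : Fin (r + 1) → A) (φ : Matrix (Fin (r + 1)) (Fin r) A) : Matrix (Fin (r + 1)) (Fin (r + 1)) A :=
  Matrix.of fun i j => Fin.cons (α := fun _ => A) (v i) (φ i) j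

theorem det_aug (v : Fin (r + 1) → A) (φ : Matrix (Fin (r + 1)) (Fin r) A) :
    (aug v φ).det = ∑ i, mnr φ i * v i := by
  rw [Matrix.det_succ_column_zero]
  refine Finset.sum_congr rfl fun i _ => ?_
  rw [mnr, mul_right_comm]
  rfl

theorem cramer_identity (φ : Matrix (Fin (r + 1)) (Fin r) A) (δ : Fin (r + 1) → A)
    (hδ : ∀ j, ∑ i, δ i * φ i j = 0) (i l : Fin (r + 1)) : δ i * mnr φ l = δ l * mnr φ i := by
  classical
  let v : Fin (r + 1) → A := Pi.single i 1
  have h1 : δ ᵥ* aug v φ = Pi.single 0 (δ i) := by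
    funext j
    refine Fin.cases ?_ (fun j => ?_) j
    · simp [vecMul, dotProduct, aug, v, Pi.single_apply]
    · simp [vecMul, dotProduct, aug, hδ j]
  have h2 : (aug v φ).adjugate 0 l = mnr φ l := by
    rw [adjugate_fin_succ_eq_det_submatrix, mnr, Fin.succAbove_zero]
    rfl
  have h3 : δ ᵥ* aug v φ ᵥ* (aug v φ).adjugate = (aug v φ).det • δ := by
    rw [vecMul_vecMul, mul_adjugate, vecMul_smul, vecMul_one]
  have h4 := congrFun h3 l
  rw [h1, single_vecMul, Pi.smul_apply, smul_eq_mul, Pi.smul_apply, smul_eq_mul, det_aug, Matrix.row] at h4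
  rw [h2] at h4
  simp only [v, Pi.single_apply, mul_ite, mul_one, mul_zero, Finset.sum_ite_eq', Finset.mem_univ, if_true] at h4
  rw [h4, mul_comm]

theorem sum_mnr_mul (φ : Matrix (Fin (r + 1)) (Fin r) A) (j : Fin r) : ∑ i, mnr φ i * φ i j = 0 := by
  rw [← det_aug (fun i => φ i j) φ]
  exact Matrix.det_zero_of_column_eq (Fin.succ_ne_zero j).symm fun i => by simp [aug]

theorem exists_eq_smul_mnr (φ : Matrix (Fin (r + 1)) (Fin r) A) (δ : Fin (r + 1) → A)
    (hδ : ∀ j, ∑ i, δ i * φ i j = 0) {x y : A} (hx : x ∈ Ideal.span (Set.range (mnr φ)))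
    (hy : y ∈ Ideal.span (Set.range (mnr φ))) (hxn : x ∈ nonZeroDivisors A)
    (hreg : ∀ z, y * z ∈ Ideal.span {x} → z ∈ Ideal.span {x}) : ∃ c, ∀ l, δ l = c * mnr φ l := by
  have key : ∀ z ∈ Ideal.span (Set.range (mnr φ)), ∃ c, ∀ l, z * δ l = c * mnr φ l := by
    intro z hz
    induction hz using Submodule.span_induction with
    | mem z hz =>
      obtain ⟨i, rfl⟩ := hz
      exact ⟨δ i, fun l => by rw [cramer_identity φ δ hδ i l, mul_comm]⟩
    | zero => exact ⟨0, fun l => by simp⟩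
    | add a b _ _ ha hb =>
      obtain ⟨c, hc⟩ := ha
      obtain ⟨d, hd⟩ := hb
      exact ⟨c + d, fun l => by rw [add_mul, add_mul, hc, hd]⟩
    | smul t a _ ha =>
      obtain ⟨c, hc⟩ := ha
      exact ⟨t * c, fun l => by rw [smul_eq_mul, mul_assoc, hc, mul_assoc]⟩
  obtain ⟨cx, hcx⟩ := key x hx
  obtain ⟨cy, hcy⟩ := key y hy
  have h1 : y * cx = x * cy := by
    have h0 : ∀ z ∈ Ideal.span (Set.range (mnr φ)), (y * cx - x * cy) * z = 0 := by
      intro z hz
      induction hz using Submodule.span_induction with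
      | mem z hz => obtain ⟨l, rfl⟩ := hz; linear_combination x * hcy l - y * hcx l
      | zero => simp
      | add a b _ _ ha hb => rw [mul_add, ha, hb, add_zero]
      | smul t a _ ha => rw [smul_eq_mul, mul_left_comm, ha, mul_zero]
    exact sub_eq_zero.mp ((mem_nonZeroDivisors_iff_right.mp hxn) _ (h0 x hx))
  obtain ⟨c, hc⟩ := Ideal.mem_span_singleton.mp (hreg cx (h1 ▸ Ideal.mul_mem_right _ _ (Ideal.mem_span_singleton_self x)))
  refine ⟨c, fun l => sub_eq_zero.mp ((mem_nonZeroDivisors_iff_right.mp hxn) _ ?_)⟩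
  linear_combination hcx l + mnr φ l * hc

section

variable {R : Type u} [CommRing R] [Algebra R A]

theorem mem_smul_self_iff (𝔞 : Ideal R) (x : A) :
    x ∈ (𝔞 • ⊤ : Submodule R A) ↔ x ∈ 𝔞.map (algebraMap R A) := by
  rw [Ideal.smul_top_eq_map, Submodule.restrictScalars_mem]

theorem mem_smul_pi_iff {n : ℕ} (𝔞 : Ideal R) (x : Fin n → A) :
    x ∈ (𝔞 • ⊤ : Submodule R (Fin n → A)) ↔ ∀ i, x i ∈ 𝔞.map (algebraMap R A) := by
  refine ⟨fun h i => ?_, fun h => ?_⟩
  · rw [← mem_smul_self_iff]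
    have := Submodule.mem_map_of_mem (f := (LinearMap.proj i : (Fin n → A) →ₗ[R] A)) h
    rw [Submodule.map_smul''] at this
    exact Submodule.smul_mono le_rfl le_top this
  · rw [← Finset.univ_sum_single x]
    refine Submodule.sum_mem _ fun i _ => ?_
    have := Submodule.mem_map_of_mem (f := LinearMap.single R (fun _ : Fin n => A) i) ((mem_smul_self_iff 𝔞 _).mpr (h i))
    rw [Submodule.map_smul''] at this
    exact Submodule.smul_mono le_rfl le_top this

theorem range_mnr (φ : Matrix (Fin (r + 1)) (Fin r) A) :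
    LinearMap.range ((Fintype.linearCombination A (mnr φ)).restrictScalars R) =
      (Ideal.span (Set.range (mnr φ))).restrictScalars R := by
  ext z
  rw [Submodule.restrictScalars_mem, Ideal.span, ← Fintype.range_linearCombination A (mnr φ)]
  rfl

/-- Exactness lifts from the closed fibre. -/
theorem resolution_of_fibre [IsLocalRing R] (hm : IsNilpotent (maximalIdeal R)) [Module.Flat R A]
    (φ : Matrix (Fin (r + 1)) (Fin r) A)
    (ha : ∀ x, (∀ i, φ.mulVecLin x i ∈ (maximalIdeal R).map (algebraMap R A)) →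
      ∀ j, x j ∈ (maximalIdeal R).map (algebraMap R A))
    (hb : ∀ y, Fintype.linearCombination A (mnr φ) y ∈ (maximalIdeal R).map (algebraMap R A) →
      ∃ x, ∀ i, y i - φ.mulVecLin x i ∈ (maximalIdeal R).map (algebraMap R A)) :
    Function.Injective φ.mulVecLin ∧
      LinearMap.range φ.mulVecLin = LinearMap.ker (Fintype.linearCombination A (mnr φ)) ∧
      Module.Flat R (A ⧸ Ideal.span (Set.range (mnr φ))) := by
  haveI : ∀ n : ℕ, Module.Flat R (Fin n → A) := fun n =>
    Module.Flat.of_linearEquiv (TensorProduct.piScalarRight R R A (Fin n)).symm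
  let u := φ.mulVecLin.restrictScalars R
  let w := (Fintype.linearCombination A (mnr φ)).restrictScalars R
  obtain ⟨hu, hflat⟩ := injective_flat_of_nilpotent hm u fun x hx => by
    rw [mem_smul_pi_iff] at hx ⊢
    exact ha x hx
  haveI := hflat
  have hcomp : ∀ x, w (u x) = 0 := fun x => by
    show Fintype.linearCombination A (mnr φ) (φ.mulVec x) = 0
    rw [Fintype.linearCombination_apply]
    simp only [smul_eq_mul, mulVec, dotProduct, Finset.sum_mul]
    rw [Finset.sum_comm]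
    refine Finset.sum_eq_zero fun j _ => ?_
    calc ∑ i, φ i j * x j * mnr φ i = x j * ∑ i, mnr φ i * φ i j := by
          rw [Finset.mul_sum]; exact Finset.sum_congr rfl fun i _ => by ring
      _ = 0 := by rw [sum_mnr_mul, mul_zero]
  let w' := (LinearMap.range u).liftQ w (by rintro _ ⟨x, rfl⟩; exact hcomp x)
  obtain ⟨hw, hflat'⟩ := injective_flat_of_nilpotent hm w' fun p hp => by
    obtain ⟨y, rfl⟩ := Submodule.mkQ_surjective _ p
    rw [mem_smul_self_iff] at hp
    obtain ⟨x, hx⟩ := hb y hp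
    have h1 : y - u x ∈ (maximalIdeal R • ⊤ : Submodule R (Fin (r + 1) → A)) := (mem_smul_pi_iff _ _).mpr hx
    have h2 := Submodule.mem_map_of_mem (f := (LinearMap.range u).mkQ) h1
    rw [Submodule.map_smul'', map_sub, show (LinearMap.range u).mkQ (u x) = 0 from
      (Submodule.Quotient.mk_eq_zero _).mpr ⟨x, rfl⟩, sub_zero] at h2
    exact Submodule.smul_mono le_rfl le_top h2
  refine ⟨hu, le_antisymm ?_ (fun y hy => ?_), ?_⟩
  · rintro _ ⟨x, rfl⟩
    exact hcomp x
  · obtain ⟨x, hx⟩ := (Submodule.Quotient.mk_eq_zero _).mp (hw ((show w' (Submodule.Quotient.mk y) = 0 from hy).trans (map_zero w').symm))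
    exact ⟨x, hx⟩
  · haveI := hflat'
    exact Module.Flat.of_linearEquiv ((Submodule.quotEquivOfEq (LinearMap.range w') ((Ideal.span (Set.range (mnr φ))).restrictScalars R)
      ((Submodule.range_liftQ _ _ _).trans (range_mnr φ))).trans (Submodule.Quotient.restrictScalarsEquiv R _)).symm

/-- An exact resolution with flat quotient stays exact modulo any ideal of the base. -/
theorem fibre_of_resolution [Module.Flat R A] (φ : Matrix (Fin (r + 1)) (Fin r) A)
    (hinj : Function.Injective φ.mulVecLin)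
    (hex : LinearMap.range φ.mulVecLin = LinearMap.ker (Fintype.linearCombination A (mnr φ)))
    [Module.Flat R (A ⧸ Ideal.span (Set.range (mnr φ)))] (𝔞 : Ideal R) :
    (∀ x, (∀ i, φ.mulVecLin x i ∈ 𝔞.map (algebraMap R A)) → ∀ j, x j ∈ 𝔞.map (algebraMap R A)) ∧
    (∀ y, Fintype.linearCombination A (mnr φ) y ∈ 𝔞.map (algebraMap R A) →
      ∃ x, ∀ i, y i - φ.mulVecLin x i ∈ 𝔞.map (algebraMap R A)) := by
  haveI : ∀ n : ℕ, Module.Flat R (Fin n → A) := fun n =>
    Module.Flat.of_linearEquiv (TensorProduct.piScalarRight R R A (Fin n)).symm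
  let u := φ.mulVecLin.restrictScalars R
  let w := (Fintype.linearCombination A (mnr φ)).restrictScalars R
  haveI : Module.Flat R (A ⧸ LinearMap.range w) :=
    Module.Flat.of_linearEquiv ((Submodule.quotEquivOfEq _ _ (range_mnr φ)).trans (Submodule.Quotient.restrictScalarsEquiv R _))
  haveI : Module.Flat R (LinearMap.range w) := flat_submodule _
  haveI : Module.Flat R ((Fin (r + 1) → A) ⧸ LinearMap.range u) :=
    Module.Flat.of_linearEquiv ((Submodule.quotEquivOfEq (LinearMap.range u) (LinearMap.ker w) (by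
      ext y; exact SetLike.ext_iff.mp hex y)).trans w.quotKerEquivRange)
  refine ⟨fun x hx => ?_, fun y hy => ?_⟩
  · rw [← mem_smul_pi_iff]
    exact mem_smul_of_flat_coker u hinj 𝔞 ((mem_smul_pi_iff _ _).mpr hx)
  · haveI : Module.Flat R (A ⧸ LinearMap.range (LinearMap.range w).subtype) :=
      Module.Flat.of_linearEquiv (Submodule.quotEquivOfEq _ (LinearMap.range w) (Submodule.range_subtype _))
    have h1 : w.rangeRestrict y ∈ (𝔞 • ⊤ : Submodule R (LinearMap.range w)) :=
      mem_smul_of_flat_coker (LinearMap.range w).subtype Subtype.val_injective 𝔞 ((mem_smul_self_iff _ _).mpr hy)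
    rw [show (⊤ : Submodule R (LinearMap.range w)) = Submodule.map w.rangeRestrict ⊤ from
      ((Submodule.map_top _).trans (LinearMap.range_rangeRestrict w)).symm, ← Submodule.map_smul''] at h1
    obtain ⟨z, hz, hzy⟩ := h1
    have h2 : y - z ∈ LinearMap.ker (Fintype.linearCombination A (mnr φ)) := by
      show w (y - z) = 0
      rw [map_sub, sub_eq_zero]
      exact (congrArg Subtype.val hzy).symm
    rw [← hex] at h2
    obtain ⟨x, hx⟩ := h2
    exact ⟨x, fun i => by rw [hx, Pi.sub_apply, sub_sub_cancel]; exact (mem_smul_pi_iff _ _).mp hz i⟩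

/-- A regular pair on the closed fibre is regular, with relatively flat quotient. -/
theorem regular_pair_lift [IsLocalRing R] (hm : IsNilpotent (maximalIdeal R)) [Module.Flat R A] (x y : A)
    (hx : ∀ z, z * x ∈ (maximalIdeal R).map (algebraMap R A) → z ∈ (maximalIdeal R).map (algebraMap R A))
    (hy : ∀ z, y * z ∈ (maximalIdeal R).map (algebraMap R A) ⊔ Ideal.span {x} →
      z ∈ (maximalIdeal R).map (algebraMap R A) ⊔ Ideal.span {x}) :
    x ∈ nonZeroDivisors A ∧ (∀ z, y * z ∈ Ideal.span {x} → z ∈ Ideal.span {x}) ∧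
      ∀ (𝔞 : Ideal R) z, z * x ∈ 𝔞.map (algebraMap R A) → z ∈ 𝔞.map (algebraMap R A) := by
  obtain ⟨hinj, hflat⟩ := injective_flat_of_nilpotent hm (LinearMap.mulRight R x) fun z hz => by
    rw [mem_smul_self_iff] at hz ⊢
    exact hx z hz
  haveI := hflat
  haveI : Module.Flat R (A ⧸ Ideal.span {x}) := by
    have e : LinearMap.range (LinearMap.mulRight R x) = (Ideal.span {x}).restrictScalars R := by
      ext v
      rw [Submodule.restrictScalars_mem, Ideal.mem_span_singleton']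
      exact Iff.rfl
    exact Module.Flat.of_linearEquiv
      ((Submodule.quotEquivOfEq _ _ e).trans (Submodule.Quotient.restrictScalarsEquiv R _)).symm
  refine ⟨mem_nonZeroDivisors_iff_right.mpr fun z hz => hinj (hz.trans (map_zero (LinearMap.mulRight R x)).symm),
    fun z hz => ?_, fun 𝔞 z hz => (mem_smul_self_iff _ _).mp
      (mem_smul_of_flat_coker _ hinj 𝔞 ((mem_smul_self_iff _ _).mpr hz))⟩
  obtain ⟨hinj', -⟩ := injective_flat_of_nilpotent hm
    (LinearMap.mulLeft R (Ideal.Quotient.mk (Ideal.span {x}) y)) fun v hv => by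
    obtain ⟨v, rfl⟩ := Ideal.Quotient.mk_surjective v
    rw [mem_smul_self_iff, IsScalarTower.algebraMap_eq R A (A ⧸ Ideal.span {x}), ← Ideal.map_map] at hv ⊢
    change Ideal.Quotient.mk (Ideal.span {x}) y * Ideal.Quotient.mk (Ideal.span {x}) v ∈ _ at hv
    rw [← map_mul, Ideal.Quotient.algebraMap_eq, Ideal.mem_quotient_iff_mem_sup] at hv
    rw [Ideal.Quotient.algebraMap_eq, Ideal.mem_quotient_iff_mem_sup]
    exact hy v hv
  rw [← Ideal.Quotient.eq_zero_iff_mem]
  refine hinj' (Eq.trans ?_ (map_zero _).symm)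
  show Ideal.Quotient.mk (Ideal.span {x}) y * Ideal.Quotient.mk (Ideal.span {x}) z = 0
  rw [← map_mul]
  exact Ideal.Quotient.eq_zero_iff_mem.mpr hz

end

/-- A codimension-two ideal of a smooth algebra over a field contains a regular pair. -/
theorem exists_pair_of_smooth (k : Type u) [Field k] {A₀ : Type u} [CommRing A₀] [Algebra k A₀]
    [Algebra.Smooth k A₀] (I : Ideal A₀) (h : ∀ p : Ideal A₀, p.IsPrime → I ≤ p → (2 : ℕ∞) ≤ p.height) :
    ∃ x ∈ I, ∃ y ∈ I, x ∈ nonZeroDivisors A₀ ∧ y ∈ nonZeroDivisors A₀ ∧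
      ∀ z, y * z ∈ Ideal.span {x} → z ∈ Ideal.span {x} := by
  haveI : IsNoetherianRing A₀ := Algebra.FiniteType.isNoetherianRing k A₀
  refine FlatSecLib.exists_regular_pair I (St := fun p : PrimeSpectrum A₀ => Localization.AtPrime p.asIdeal) fun p hp => ?_
  haveI : IsNoetherianRing (Localization.AtPrime p.asIdeal) :=
    IsLocalization.isNoetherianRing p.asIdeal.primeCompl _ inferInstance
  haveI : Algebra.FormallySmooth k (Localization.AtPrime p.asIdeal) :=
    haveI := Algebra.FormallySmooth.of_isLocalization (R := A₀) (Rₘ := Localization.AtPrime p.asIdeal) p.asIdeal.primeCompl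
    Algebra.FormallySmooth.comp k A₀ (Localization.AtPrime p.asIdeal)
  haveI : IsRegularLocalRing (Localization.AtPrime p.asIdeal) := by
    refine ((Groth.Agent.S2471.result (k := k)).mp ?_).1
    intro D _ _ J hJ ψ hψ
    exact Algebra.FormallySmooth.comp_surjective k _ J hJ ψ
  refine PurityLib.two_le_depth_of_regular _ ?_
  rw [IsLocalization.AtPrime.ringKrullDim_eq_height p.asIdeal]
  exact WithBot.coe_le_coe.mpr (h p.asIdeal p.isPrime hp)

theorem flat_quot {R A : Type u} [CommRing R] [CommRing A] [Algebra R A] [Module.Flat R A] (J : Ideal R) :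
    Module.Flat (R ⧸ J) (A ⧸ J.map (algebraMap R A)) := by
  let e : TensorProduct R (R ⧸ J) A ≃ₐ[R] A ⧸ J.map (algebraMap R A) :=
    (Algebra.TensorProduct.comm R (R ⧸ J) A).trans
      ((Algebra.TensorProduct.quotIdealMapEquivTensorQuot A J).restrictScalars R).symm
  exact Module.Flat.of_linearEquiv (e.toLinearEquiv.extendScalarsOfSurjective
    (show Function.Surjective (algebraMap R (R ⧸ J)) from Ideal.Quotient.mk_surjective)).symm

theorem map_lc_mnr {B : Type u} [CommRing B] (g : A →+* B) (φ : Matrix (Fin (r + 1)) (Fin r) A) (y : Fin (r + 1) → A) :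
    Fintype.linearCombination B (mnr (φ.map g)) (g ∘ y) = g (Fintype.linearCombination A (mnr φ) y) := by
  rw [Fintype.linearCombination_apply, Fintype.linearCombination_apply, map_sum]
  exact Finset.sum_congr rfl fun i _ => by rw [smul_eq_mul, smul_eq_mul, map_mul, mnr_map]; rfl

/-- Pull fibrewise conditions back along a surjection. -/
theorem fibre_pullback {B : Type u} [CommRing B] (g : A →+* B) (hg : Function.Surjective g) (𝔪 : Ideal A) (𝔪' : Ideal B)
    (h𝔪 : ∀ z, g z ∈ 𝔪' ↔ z ∈ 𝔪) (φ : Matrix (Fin (r + 1)) (Fin r) A)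
    (ha : ∀ x, (∀ i, (φ.map g).mulVecLin x i ∈ 𝔪') → ∀ j, x j ∈ 𝔪')
    (hb : ∀ y, Fintype.linearCombination B (mnr (φ.map g)) y ∈ 𝔪' → ∃ x, ∀ i, y i - (φ.map g).mulVecLin x i ∈ 𝔪') :
    (∀ x, (∀ i, φ.mulVecLin x i ∈ 𝔪) → ∀ j, x j ∈ 𝔪) ∧
    (∀ y, Fintype.linearCombination A (mnr φ) y ∈ 𝔪 → ∃ x, ∀ i, y i - φ.mulVecLin x i ∈ 𝔪) := by
  refine ⟨fun x hx j => (h𝔪 _).mp (ha (g ∘ x) (fun i => ?_) j), fun y hy => ?_⟩
  · show ((φ.map g) *ᵥ (g ∘ x)) i ∈ 𝔪'
    rw [← RingHom.map_mulVec, h𝔪]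
    exact hx i
  · obtain ⟨x', hx'⟩ := hb (g ∘ y) (by rw [map_lc_mnr, h𝔪]; exact hy)
    choose x hx using fun j => hg (x' j)
    refine ⟨x, fun i => (h𝔪 _).mp ?_⟩
    rw [map_sub, show g (φ.mulVecLin x i) = ((φ.map g) *ᵥ (g ∘ x)) i from RingHom.map_mulVec g φ x i,
      show g ∘ x = x' from funext hx]
    exact hx' i

theorem mem_mul_of_flat {R : Type u} [CommRing R] [Algebra R A] (I : Ideal A) [Module.Flat R (A ⧸ I)] (𝔞 : Ideal R)
    {z : A} (hz : z ∈ I) (hz' : z ∈ 𝔞.map (algebraMap R A)) : z ∈ 𝔞.map (algebraMap R A) * I := by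
  haveI : Module.Flat R (A ⧸ LinearMap.range (I.restrictScalars R).subtype) :=
    Module.Flat.of_linearEquiv ((Submodule.quotEquivOfEq _ (I.restrictScalars R) (Submodule.range_subtype _)).trans
      (Submodule.Quotient.restrictScalarsEquiv R I))
  have h1 := mem_smul_of_flat_coker (I.restrictScalars R).subtype Subtype.val_injective 𝔞 (x := ⟨z, hz⟩)
    ((mem_smul_self_iff _ _).mpr hz')
  suffices ∀ v ∈ (𝔞 • ⊤ : Submodule R (I.restrictScalars R)), (v : A) ∈ 𝔞.map (algebraMap R A) * I from this _ h1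
  intro v hv
  induction hv using Submodule.smul_induction_on' with
  | smul c hc w _ =>
    rw [Submodule.coe_smul, Algebra.smul_def]
    exact Ideal.mul_mem_mul (Ideal.mem_map_of_mem _ hc) w.2
  | add a _ b _ ha hb => rw [Submodule.coe_add]; exact add_mem ha hb

/-- Lift a determinantal presentation along a nilpotent thickening. -/
theorem exists_lift_minors (𝔫 : Ideal A) (hn : IsNilpotent 𝔫) (I : Ideal A) (hI : ∀ z ∈ I, z ∈ 𝔫 → z ∈ 𝔫 * I)
    (φ₀ : Matrix (Fin (r + 1)) (Fin r) (A ⧸ 𝔫)) (hmap : I.map (Ideal.Quotient.mk 𝔫) = Ideal.span (Set.range (mnr φ₀)))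
    (hpair : ∃ x₀ ∈ Ideal.span (Set.range (mnr φ₀)), ∃ y₀ ∈ Ideal.span (Set.range (mnr φ₀)), ∀ x y : A,
      Ideal.Quotient.mk 𝔫 x = x₀ → Ideal.Quotient.mk 𝔫 y = y₀ →
      x ∈ nonZeroDivisors A ∧ (∀ z, y * z ∈ Ideal.span {x} → z ∈ Ideal.span {x}) ∧ (∀ z, z * x ∈ 𝔫 → z ∈ 𝔫)) :
    ∃ φ : Matrix (Fin (r + 1)) (Fin r) A, φ.map (Ideal.Quotient.mk 𝔫) = φ₀ ∧ I = Ideal.span (Set.range (mnr φ)) := by
  classical
  have hex : ∀ i, ∃ g ∈ I, Ideal.Quotient.mk 𝔫 g = mnr φ₀ i := fun i =>
    (Ideal.mem_map_iff_of_surjective _ Ideal.Quotient.mk_surjective).mp (hmap ▸ Ideal.subset_span ⟨i, rfl⟩)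
  choose g hgI hg using hex
  have hgle : Ideal.span (Set.range g) ≤ I := Ideal.span_le.mpr (by rintro _ ⟨i, rfl⟩; exact hgI i)
  have hspan : I = Ideal.span (Set.range g) := by
    refine le_antisymm (le_of_le_sup_nilpotent hn fun z hz => ?_) hgle
    have h1 : Ideal.Quotient.mk 𝔫 z ∈ (Ideal.span (Set.range g)).map (Ideal.Quotient.mk 𝔫) := by
      rw [Ideal.map_span, ← Set.range_comp, show (Ideal.Quotient.mk 𝔫) ∘ g = mnr φ₀ from funext hg, ← hmap]
      exact Ideal.mem_map_of_mem _ hz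
    rw [Ideal.mem_quotient_iff_mem_sup, Submodule.mem_sup] at h1
    obtain ⟨a, ha, b, hb, hab⟩ := h1
    exact Submodule.mem_sup.mpr ⟨a, ha, b, hI b (by
      have h2 := sub_mem hz (hgle ha); rwa [← hab, add_sub_cancel_left] at h2) hb, hab⟩
  choose φ₁ hφ₁ using fun i j => Ideal.Quotient.mk_surjective (φ₀ i j)
  have hrel : ∀ j, ∃ ε : Fin (r + 1) → A, (∀ i, ε i ∈ 𝔫) ∧ ∑ i, g i * φ₁ i j = ∑ i, ε i * g i := by
    intro j
    have h1 : ∑ i, g i * φ₁ i j ∈ 𝔫 * Ideal.span (Set.range g) := by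
      rw [← hspan]
      refine hI _ (Submodule.sum_mem _ fun i _ => Ideal.mul_mem_right _ _ (hgI i)) ?_
      rw [← Ideal.Quotient.eq_zero_iff_mem, map_sum]
      simp only [map_mul, hg, hφ₁]
      exact sum_mnr_mul φ₀ j
    rw [← smul_eq_mul, Ideal.span] at h1
    obtain ⟨a, ha, h2⟩ := (Submodule.mem_ideal_smul_span_iff_exists_sum 𝔫 g _).mp h1
    refine ⟨a, ha, ?_⟩
    rw [← h2, Finsupp.sum_fintype _ _ (by simp)]
    exact Finset.sum_congr rfl fun i _ => rfl
  choose ε hε hεeq using hrel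
  let φ : Matrix (Fin (r + 1)) (Fin r) A := Matrix.of fun i j => φ₁ i j - ε j i
  have hφ : φ.map (Ideal.Quotient.mk 𝔫) = φ₀ := by
    ext i j
    simp [φ, Matrix.map_apply, hφ₁, Ideal.Quotient.eq_zero_iff_mem.mpr (hε j i)]
  refine ⟨φ, hφ, ?_⟩
  have hgφ : ∀ j, ∑ i, g i * φ i j = 0 := fun j => by
    simp only [φ, Matrix.of_apply, mul_sub, Finset.sum_sub_distrib, hεeq, sub_eq_zero]
    exact Finset.sum_congr rfl fun i _ => mul_comm _ _
  have hf : ∀ i, Ideal.Quotient.mk 𝔫 (mnr φ i) = mnr φ₀ i := fun i => by rw [← mnr_map, hφ]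
  have hlift : ∀ z₀ ∈ Ideal.span (Set.range (mnr φ₀)), ∃ z ∈ Ideal.span (Set.range (mnr φ)), Ideal.Quotient.mk 𝔫 z = z₀ :=
    fun z₀ hz₀ => (Ideal.mem_map_iff_of_surjective _ Ideal.Quotient.mk_surjective).mp (by
      rw [Ideal.map_span, ← Set.range_comp, show (Ideal.Quotient.mk 𝔫) ∘ mnr φ = mnr φ₀ from funext hf]
      exact hz₀)
  obtain ⟨x₀, hx₀, y₀, hy₀, hp⟩ := hpair
  obtain ⟨x, hx, hxe⟩ := hlift x₀ hx₀
  obtain ⟨y, hy, hye⟩ := hlift y₀ hy₀
  obtain ⟨hxn, hreg, hxmod⟩ := hp x y hxe hye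
  obtain ⟨c, hc⟩ := exists_eq_smul_mnr φ g hgφ hx hy hxn hreg
  have hcu : IsUnit c := by
    have h1 : ∀ z ∈ Ideal.span (Set.range (mnr φ)), (c - 1) * z ∈ 𝔫 := by
      intro z hz
      induction hz using Submodule.span_induction with
      | mem z hz =>
        obtain ⟨l, rfl⟩ := hz
        rw [sub_mul, one_mul, ← hc, ← Ideal.Quotient.eq, hg, hf]
      | zero => simp
      | add a b _ _ ha hb => rw [mul_add]; exact add_mem ha hb
      | smul t a _ ha => rw [smul_eq_mul, mul_left_comm]; exact Ideal.mul_mem_left _ _ ha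
    obtain ⟨n, hn⟩ := hn
    have h2 : IsNilpotent (c - 1) := ⟨n, by
      have h3 := Ideal.pow_mem_pow (hxmod _ (h1 x hx)) n
      rw [hn] at h3
      exact h3⟩
    have h4 := h2.isUnit_add_one
    rwa [sub_add_cancel] at h4
  rw [hspan]
  refine le_antisymm (Ideal.span_le.mpr ?_) (Ideal.span_le.mpr ?_)
  · rintro _ ⟨l, rfl⟩
    rw [hc]
    exact Ideal.mul_mem_left _ _ (Ideal.subset_span ⟨l, rfl⟩)
  · rintro _ ⟨l, rfl⟩
    obtain ⟨d, hd⟩ := hcu.exists_left_inv
    have h5 := Ideal.mul_mem_left (Ideal.span (Set.range g)) d (Ideal.subset_span ⟨l, rfl⟩)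
    rwa [hc, ← mul_assoc, hd, one_mul] at h5

theorem height_comap_le {A B : Type u} [CommRing A] [CommRing B] (g : A →+* B) (hg : Function.Surjective g)
    (hker : RingHom.ker g ≤ nilradical A) (p : Ideal B) [p.IsPrime] : (p.comap g).height ≤ p.height := by
  rw [show (p.comap g).height = Order.height (⟨p.comap g, inferInstance⟩ : PrimeSpectrum A) from
      PrimeSpectrum.height_eq_orderHeight ⟨p.comap g, inferInstance⟩,
    show p.height = Order.height (⟨p, inferInstance⟩ : PrimeSpectrum B) from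
      PrimeSpectrum.height_eq_orderHeight ⟨p, inferInstance⟩]
  let f : PrimeSpectrum A → PrimeSpectrum B := fun Q =>
    ⟨Q.asIdeal.map g, Ideal.map_isPrime_of_surjective hg (hker.trans (nilradical_le_prime _))⟩
  have hcomap : ∀ Q : PrimeSpectrum A, (Q.asIdeal.map g).comap g = Q.asIdeal := fun Q => by
    rw [Ideal.comap_map_of_surjective g hg]
    exact sup_eq_left.mpr ((RingHom.ker_eq_comap_bot g).ge.trans (hker.trans (nilradical_le_prime _)))
  have hmono : StrictMono f := fun Q Q' h => lt_of_le_of_ne (Ideal.map_mono h.le) fun e => h.ne (PrimeSpectrum.ext (by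
    rw [← hcomap Q, ← hcomap Q', show Q.asIdeal.map g = Q'.asIdeal.map g from congrArg PrimeSpectrum.asIdeal e]))
  have h1 := Order.height_le_height_apply_of_strictMono f hmono ⟨p.comap g, inferInstance⟩
  have h2 : f ⟨p.comap g, inferInstance⟩ = ⟨p, inferInstance⟩ := PrimeSpectrum.ext (Ideal.map_comap_of_surjective g hg p)
  rw [h2] at h1
  exact h1

end Groth.Agent.DeformLib
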