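import Groth.Agent.DeformLib.Data
import Groth.Agent.S1945
import Groth.Agent.BivarLib.GysinCompat
import Groth.Agent.BivarLib.Chern
import Groth.Agent.VBundLib.Inj

/-!
# Gysin maps and deformation spaces
-/

set_option autoImplicit false
set_option backward.isDefEq.respectTransparency false
set_option linter.style.haveILetI false

universe u

open CategoryTheory CategoryTheory.Limits AlgebraicGeometry
open Groth.Agent.CycLib Groth.Agent.BivarLib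

noncomputable section

namespace Groth.Agent.DeformLib

open CycLib.AffBundle (Idx LocTriv)

theorem ratEquiv_cast {X : Scheme.{u}} {δ : X → ℤ} {k l : ℤ} (e : k = l) {α β : AlgebraicCycle X ℤ}
    (h : Cyc.RatEquiv δ k α β) : Cyc.RatEquiv δ l α β := e ▸ h

/-- A pullback by a line bundle with a zero section kills no class. -/
theorem ratEquivZero_of_pull {A B : Scheme.{u}} {q : A ⟶ B} (hq : LocTriv q 1) {z : B ⟶ A} [IsClosedImmersion z]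
    (hzq : z ≫ q = 𝟙 B) {N : A.Modules} (hN : PicF.IsInvertible N) {ν : N.presheaf.obj (Opposite.op ⊤)}
    (hν : Cyc.IsZeroSchemeOf z N ν) (hne : ∀ y : B, ∃ v : A, q v = y ∧ v ∉ Set.range z) {δA : A → ℤ} {δB : B → ℤ}
    (hB : Cyc.IsSetup B δB) (hδ : Cyc.DeltaCompat q δA δB) {k : ℤ} (β : AlgebraicCycle B ℤ)
    (hβ : β ∈ Cyc.Zk B δB k) (β' : AlgebraicCycle A ℤ) (h : ⇑β' = Cyc.pullFun q δA δB 1 ⇑β)
    (h0 : Cyc.RatEquivZero δA (k + 1) β') : Cyc.RatEquivZero δB k β := by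
  obtain ⟨_, _, _, _⟩ := VBundLib.isAffineHom_of_locTriv hq
  haveI := hB.1
  have hA := isSetup_of_lft q hB hδ
  haveI := hA.1
  have e0 : (fun y => δA (z y)) = δB := by
    refine delta_unique (g := 𝟙 B) (δY := δB) ?_ (Bivar.deltaCompat_id δB)
    rw [← hzq]
    exact Bivar.deltaCompat_comp z q _ _ _ (CycLib.deltaCompat_preimmersion z δA) hδ
  obtain ⟨hreg, hflat, -⟩ := regular_flat hq hN z hν hne
  haveI := hflat
  have h00 : Cyc.HasRelDim (z ≫ q) 0 :=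
    hasRelDim_of_isShift (isShift_zero hq hN z hν hne hB hδ (r' := 0) rfl)
      (Bivar.deltaCompat_comp z q _ _ _ (CycLib.deltaCompat_preimmersion z δA) hδ)
  have hw := secs_ne_zero hN
  let γ := restrictCycle z (c1Cycle hA.2.2 hN β' (Cyc.gysinChoice N ν (secs hN)))
  have hr : Cyc.HasRelDim q (0 + 1) := VBundLib.hasRelDim_of_locTriv hq
  have h1 := S1945.result A B B δA δB hA hB q 0 hr hδ N hN ν hreg z hν h00 (k - 1) β
    (by rw [sub_add_cancel]; exact hβ) (secs hN) hw γ β (fun d => by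
      show Cyc.c1CapFun δA N ⇑β' _ (z d) = _
      rw [h]
      rfl) (by
      rw [e0, hzq]
      exact (VBundLib.pullFun_id hB.2.2 ⇑β).symm)
  rw [e0] at h1
  have h2 : Cyc.RatEquivZero δB k γ := by
    rw [← e0]
    exact gysin_ratEquivZero hA hN hν hw h0 γ fun _ => rfl
  have h3 := ratEquivZero_sub hB.2.2 h2 (show Cyc.RatEquivZero δB k (γ - β) from ratEquiv_cast (by push_cast; ring) h1)
  rwa [sub_sub_cancel] at h3

variable {S D : Scheme.{u}} {δS : S → ℤ} (hS : Cyc.IsSetup S δS) {i : D ⟶ S} [IsClosedImmersion i] {L : S.Modules}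
  (hL : PicF.IsInvertible L) {σ : L.presheaf.obj (Opposite.op ⊤)} (hσ : Cyc.IsZeroSchemeOf i L σ) (Φ : Deform i L)
  {δE : Φ.E → ℤ} (hδE : Cyc.DeltaCompat Φ.π δE δS)

theorem Deform.closed_a : IsClosedImmersion Φ.a := MorphismProperty.of_isPullback Φ.sqD.flip Φ.closedS

theorem Deform.closed_b : IsClosedImmersion Φ.b := MorphismProperty.of_isPullback Φ.sqD Φ.closedT

/-- The coordinate on the deformation space. -/
def Deform.coord : (Coh.structureModule Φ.S').presheaf.obj (Opposite.op ⊤) :=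
  (AmpleLib.pullO Φ.jS).hom.app ⊤ (pullSec Φ.jS _ Φ.t)

theorem Deform.zero_coord : Cyc.IsZeroSchemeOf Φ.b (Coh.structureModule Φ.S') Φ.coord := by
  haveI := Φ.closedT
  exact isZeroSchemeOf_mapSec (AmpleLib.isInvertible_pullback Φ.jS ParaFLib.isInvertible_structureModule)
    (AmpleLib.pullO Φ.jS) _
    (isZeroSchemeOf_of_isPullback Φ.jS ParaFLib.isInvertible_structureModule Φ.zeroT Φ.sqD.flip)

include hδE in
theorem Deform.deltaS : Cyc.DeltaCompat (Φ.jS ≫ Φ.π) (fun z => δE (Φ.jS z)) δS :=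
  haveI := Φ.closedS
  Bivar.deltaCompat_comp Φ.jS Φ.π _ _ _ (CycLib.deltaCompat_preimmersion Φ.jS δE) hδE

include hδE in
theorem Deform.deltaT : Cyc.DeltaCompat (Φ.jT ≫ Φ.π) (fun z => δE (Φ.jT z)) δS :=
  haveI := Φ.closedT
  Bivar.deltaCompat_comp Φ.jT Φ.π _ _ _ (CycLib.deltaCompat_preimmersion Φ.jT δE) hδE

include hS hL hδE in
/-- The deformation space is flat of relative dimension one. -/
theorem Deform.props_g : Flat (Φ.jS ≫ Φ.π) ∧ LocallyOfFiniteType (Φ.jS ≫ Φ.π) ∧ QuasiCompact (Φ.jS ≫ Φ.π) ∧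
    IsShift (Φ.jS ≫ Φ.π) (fun z => δE (Φ.jS z)) δS 1 ∧ Cyc.HasRelDim (Φ.jS ≫ Φ.π) 1 := by
  haveI := hS.1
  haveI := Φ.closedS
  obtain ⟨_, _, _, _⟩ := VBundLib.isAffineHom_of_locTriv Φ.locE
  have hM := AmpleLib.isInvertible_pullback Φ.π hL
  obtain ⟨-, h1, h2⟩ := regular_flat Φ.locE hM Φ.jS Φ.zeroS Φ.neS
  have h3 : IsShift (Φ.jS ≫ Φ.π) (fun z => δE (Φ.jS z)) δS ((1 : ℕ) : ℤ) :=
    isShift_zero Φ.locE hM Φ.jS Φ.zeroS Φ.neS hS hδE rfl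
  exact ⟨h1, h2, inferInstance, h3, hasRelDim_of_isShift h3 (Φ.deltaS hδE)⟩

include hS hδE in
/-- The special fibre is a line bundle. -/
theorem Deform.props_T : Flat (Φ.jT ≫ Φ.π) ∧ LocallyOfFiniteType (Φ.jT ≫ Φ.π) ∧
    IsShift (Φ.jT ≫ Φ.π) (fun z => δE (Φ.jT z)) δS 1 ∧ Cyc.HasRelDim (Φ.jT ≫ Φ.π) 1 := by
  haveI := hS.1
  obtain ⟨_, _, _, _⟩ := VBundLib.isAffineHom_of_locTriv Φ.locT
  have h := VBundLib.hasRelDim_of_locTriv Φ.locT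
  exact ⟨inferInstance, inferInstance,
    IsShift.of_relDim (isSetup_of_lft _ hS (Φ.deltaT hδE)) hS 1 h (Φ.deltaT hδE), h⟩

include hS hδE in
/-- The projection of the special fibre. -/
theorem Deform.props_p : Flat Φ.p ∧ LocallyOfFiniteType Φ.p ∧ QuasiCompact Φ.p ∧
    Cyc.DeltaCompat Φ.p (fun z => δE (Φ.jT (Φ.a z))) (fun d => δS (i d)) ∧
    IsShift Φ.p (fun z => δE (Φ.jT (Φ.a z))) (fun d => δS (i d)) 1 ∧ Cyc.HasRelDim Φ.p 1 := by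
  haveI := hS.1
  haveI := Φ.closed_a
  have hp := locTriv_baseChange Φ.locT Φ.sqP
  obtain ⟨_, _, _, _⟩ := VBundLib.isAffineHom_of_locTriv hp
  have hD : Cyc.IsSetup D (fun d => δS (i d)) :=
    isSetup_of_lft i hS (CycLib.deltaCompat_preimmersion i δS)
  have hd : Cyc.DeltaCompat Φ.p (fun z => δE (Φ.jT (Φ.a z))) (fun d => δS (i d)) := by
    refine deltaCompat_of_comp Φ.p i ?_ (CycLib.deltaCompat_preimmersion i δS)
    rw [← Φ.sqP.w]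
    exact Bivar.deltaCompat_comp Φ.a (Φ.jT ≫ Φ.π) _ _ _
      (CycLib.deltaCompat_preimmersion Φ.a fun z => δE (Φ.jT z)) (Φ.deltaT hδE)
  have h := VBundLib.hasRelDim_of_locTriv hp
  exact ⟨inferInstance, inferInstance, inferInstance, hd, IsShift.of_relDim (isSetup_of_lft _ hD hd) hD 1 h hd, h⟩

include hS hδE in
/-- Pullback to the special fibre kills no class. -/
theorem Deform.injective_p {k : ℤ} (β : AlgebraicCycle D ℤ) (hβ : β ∈ Cyc.Zk D (fun d => δS (i d)) k)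
    (β' : AlgebraicCycle Φ.D' ℤ) (h : ⇑β' = Cyc.pullFun Φ.p (fun z => δE (Φ.jT (Φ.a z))) (fun d => δS (i d)) 1 ⇑β)
    (h0 : Cyc.RatEquivZero (fun z => δE (Φ.jT (Φ.a z))) (k + 1) β') : Cyc.RatEquivZero (fun d => δS (i d)) k β := by
  haveI := Φ.closedZ
  haveI := Φ.closed_a
  obtain ⟨-, -, -, hd, -, -⟩ := Φ.props_p hS hδE
  let zD : D ⟶ Φ.D' := Φ.sqP.lift (i ≫ Φ.z) (𝟙 D)
    (by rw [Category.assoc, Φ.z_fac, Category.comp_id, Category.id_comp])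
  have sqz : IsPullback i zD Φ.z Φ.a := IsPullback.of_bot
    (by
      rw [Φ.sqP.lift_snd, Φ.z_fac]
      exact IsPullback.of_vert_isIso ⟨by simp⟩)
    (Φ.sqP.lift_fst _ _ _).symm Φ.sqP
  haveI : IsClosedImmersion zD := MorphismProperty.of_isPullback sqz Φ.closedZ
  exact ratEquivZero_of_pull (locTriv_baseChange Φ.locT Φ.sqP) (Φ.sqP.lift_snd _ _ _)
    (AmpleLib.isInvertible_pullback Φ.a Φ.invN) (isZeroSchemeOf_of_isPullback Φ.a Φ.invN Φ.zeroZ sqz.flip)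
    (exists_outside Φ.sqP sqz Φ.neZ) (isSetup_of_lft i hS (CycLib.deltaCompat_preimmersion i δS)) hd β hβ β' h h0

include hS hL hσ hδE in
/-- The Gysin map of the coordinate after pullback to the deformation space is the pulled back Gysin map. -/
theorem Deform.ratEquiv_gysin {k : ℤ} (α : AlgebraicCycle S ℤ) (hα : α ∈ Cyc.Zk S δS (k + 1))
    {w : (ξ : S) → Cyc.secFibre L ξ} (hw : ∀ ξ, w ξ ≠ 0)
    {w' : (ξ : Φ.S') → Cyc.secFibre (Coh.structureModule Φ.S') ξ} (hw' : ∀ ξ, w' ξ ≠ 0)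
    (ζ₁ ζ₂ : AlgebraicCycle Φ.D' ℤ)
    (h₁ : ⇑ζ₁ = Cyc.pullFun Φ.p (fun z => δE (Φ.jT (Φ.a z))) (fun d => δS (i d)) 1
      (fun d => Cyc.c1CapFun δS L ⇑α (Cyc.gysinChoice L σ w) (i d)))
    (h₂ : ∀ z, ζ₂ z = Cyc.c1CapFun (fun z => δE (Φ.jS z)) (Coh.structureModule Φ.S')
      (Cyc.pullFun (Φ.jS ≫ Φ.π) (fun z => δE (Φ.jS z)) δS 1 ⇑α)
      (Cyc.gysinChoice (Coh.structureModule Φ.S') Φ.coord w') (Φ.b z)) :
    Cyc.RatEquiv (fun z => δE (Φ.jT (Φ.a z))) (k + 1) ζ₁ ζ₂ := by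
  haveI := hS.1
  haveI := Φ.closedS
  haveI := Φ.closedT
  haveI := Φ.closed_a
  haveI := Φ.closed_b
  obtain ⟨_, _, _, _⟩ := VBundLib.isAffineHom_of_locTriv Φ.locE
  obtain ⟨hgf, hgl, -, hshg, hrg⟩ := Φ.props_g hS hL hδE
  obtain ⟨hTf, hTl, hshT, hrT⟩ := Φ.props_T hS hδE
  haveI := hgf; haveI := hgl; haveI := hTf; haveI := hTl
  have hE := isSetup_of_lft Φ.π hS hδE
  have hS' := isSetup_of_lft (Φ.jS ≫ Φ.π) hS (Φ.deltaS hδE)
  have hT := isSetup_of_lft (Φ.jT ≫ Φ.π) hS (Φ.deltaT hδE)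
  haveI := hE.1; haveI := hS'.1; haveI := hT.1
  have hw2 : ∀ z, δE (Φ.jS (Φ.b z)) = δE (Φ.jT (Φ.a z)) := fun z => by
    rw [← Scheme.Hom.comp_apply, ← Φ.sqD.w, Scheme.Hom.comp_apply]
  have hrE : Cyc.HasRelDim Φ.π (1 + 1) := VBundLib.hasRelDim_of_locTriv Φ.locE
  have hshE := IsShift.of_relDim hE hS (1 + 1) hrE hδE
  have hM : PicF.IsInvertible ((Scheme.Modules.pullback Φ.π).obj L) := AmpleLib.isInvertible_pullback Φ.π hL
  have hO : PicF.IsInvertible (Coh.structureModule Φ.E) := ParaFLib.isInvertible_structureModule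
  let A := pullCycle hshE hE.2.2 α
  let uτ := Cyc.gysinChoice ((Scheme.Modules.pullback Φ.π).obj L) Φ.τ (secs hM)
  let ut := Cyc.gysinChoice (Coh.structureModule Φ.E) Φ.t (secs hO)
  let γτ := restrictCycle Φ.jS (c1Cycle hE.2.2 hM A uτ)
  let γt := restrictCycle Φ.jT (c1Cycle hE.2.2 hO A ut)
  let gα := pullCycle hshg hS'.2.2 α
  let Tα := pullCycle hshT hT.2.2 α
  -- the flat pullbacks are the two Gysin cycles of the plane
  have eτ : Cyc.RatEquiv (fun z => δE (Φ.jS z)) (k + 2) γτ gα := by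
    obtain ⟨hreg, -, -⟩ := regular_flat Φ.locE hM Φ.jS Φ.zeroS Φ.neS
    exact ratEquiv_cast (by push_cast; ring) (S1945.result Φ.E S Φ.S' δE δS hE hS Φ.π 1 hrE hδE _ hM Φ.τ hreg
      Φ.jS Φ.zeroS hrg k α hα (secs hM) (secs_ne_zero hM) γτ gα (fun _ => rfl) rfl)
  have et : Cyc.RatEquiv (fun z => δE (Φ.jT z)) (k + 2) γt Tα := by
    obtain ⟨hreg, -, -⟩ := regular_flat Φ.locE hO Φ.jT Φ.zeroT Φ.neT
    exact ratEquiv_cast (by push_cast; ring) (S1945.result Φ.E S Φ.T δE δS hE hS Φ.π 1 hrE hδE _ hO Φ.t hreg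
      Φ.jT Φ.zeroT hrT k α hα (secs hO) (secs_ne_zero hO) γt Tα (fun _ => rfl) rfl)
  have hA : A ∈ Cyc.Zk Φ.E δE (k + 1 + 2) := fun x hx =>
    Bivar.pullFun_mem_Zk Φ.π δE δS (1 + 1 : ℕ) (k + 1) hα A rfl x (by push_cast; omega)
  have hdS : Cyc.DeltaCompat Φ.b (fun z => δE (Φ.jT (Φ.a z))) (fun z => δE (Φ.jS z)) := by
    rw [show (fun z => δE (Φ.jT (Φ.a z))) = fun z => δE (Φ.jS (Φ.b z)) from funext fun z => (hw2 z).symm]
    exact CycLib.deltaCompat_preimmersion Φ.b fun z => δE (Φ.jS z)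
  have hdT : Cyc.DeltaCompat Φ.a (fun z => δE (Φ.jT (Φ.a z))) (fun z => δE (Φ.jT z)) :=
    CycLib.deltaCompat_preimmersion Φ.a fun z => δE (Φ.jT z)
  have hgα : gα ∈ Cyc.Zk Φ.S' (fun z => δE (Φ.jS z)) (k + 2) := fun x hx =>
    Bivar.pullFun_mem_Zk (Φ.jS ≫ Φ.π) _ δS 1 (k + 1) hα gα rfl x (by dsimp only at hx ⊢; omega)
  have hTα : Tα ∈ Cyc.Zk Φ.T (fun z => δE (Φ.jT z)) (k + 2) := fun x hx =>
    Bivar.pullFun_mem_Zk (Φ.jT ≫ Φ.π) _ δS 1 (k + 1) hα Tα rfl x (by dsimp only at hx ⊢; omega)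
  have hγτ : γτ ∈ Cyc.Zk Φ.S' (fun z => δE (Φ.jS z)) (k + 2) := fun x hx =>
    mem_Zk_gysin Φ.jS (CycLib.deltaCompat_preimmersion Φ.jS δE) hA (fun _ => rfl) x (by omega)
  have hγt : γt ∈ Cyc.Zk Φ.T (fun z => δE (Φ.jT z)) (k + 2) := fun x hx =>
    mem_Zk_gysin Φ.jT (CycLib.deltaCompat_preimmersion Φ.jT δE) hA (fun _ => rfl) x (by omega)
  let C₁ := restrictCycle (Φ.b ≫ Φ.jS) (c1Cycle hE.2.2 hO (c1Cycle hE.2.2 hM A uτ) ut)
  let C₂ := restrictCycle (Φ.b ≫ Φ.jS) (c1Cycle hE.2.2 hM (c1Cycle hE.2.2 hO A ut) uτ)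
  have hC : Cyc.RatEquiv (fun z => δE (Φ.jT (Φ.a z))) (k + 1) C₁ C₂ := by
    rw [show (fun z => δE (Φ.jT (Φ.a z))) = fun z => δE ((Φ.b ≫ Φ.jS) z) from funext fun z => (hw2 z).symm]
    refine gysin_comm hE hM hO Φ.zeroS Φ.zeroT (Φ.b ≫ Φ.jS) (fun x hx hx' => ?_) (α := A) hA
      (secs_ne_zero hM) (secs_ne_zero hO) C₁ C₂ (fun _ => rfl) (fun _ => rfl)
    obtain ⟨u, rfl⟩ := hx
    obtain ⟨v, hv⟩ := hx'
    obtain ⟨z, -, hz⟩ := Scheme.exists_preimage_of_isPullback Φ.sqD v u hv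
    exact ⟨z, by rw [Scheme.Hom.comp_apply, hz]⟩
  have hsuppτ : ∀ x, (c1Cycle hE.2.2 hM A uτ) x ≠ 0 → x ∈ Set.range Φ.jS := fun x hx => by
    obtain ⟨ξ, hξ⟩ := exists_ne_zero_finsum hx
    exact mem_range_of_gysin hE.2.2 hM Φ.zeroS (right_ne_zero_of_mul hξ)
  have hsuppt : ∀ x, (c1Cycle hE.2.2 hO A ut) x ≠ 0 → x ∈ Set.range Φ.jT := fun x hx => by
    obtain ⟨ξ, hξ⟩ := exists_ne_zero_finsum hx
    exact mem_range_of_gysin hE.2.2 hO Φ.zeroT (right_ne_zero_of_mul hξ)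
  have hC₁ : C₁ ∈ Cyc.Zk Φ.D' (fun z => δE (Φ.jT (Φ.a z))) (k + 2 - 1) :=
    mem_Zk_gysin (Φ.b ≫ Φ.jS) (Bivar.deltaCompat_comp Φ.b Φ.jS _ _ _ hdS (CycLib.deltaCompat_preimmersion Φ.jS δE))
      (k := k + 2) (fun ξ hξ => mem_Zk_c1 (γ := c1Cycle hE.2.2 hM A uτ) hA rfl ξ (by omega)) fun _ => rfl
  have hC₂ : C₂ ∈ Cyc.Zk Φ.D' (fun z => δE (Φ.jT (Φ.a z))) (k + 2 - 1) :=
    mem_Zk_gysin (Φ.b ≫ Φ.jS) (Bivar.deltaCompat_comp Φ.b Φ.jS _ _ _ hdS (CycLib.deltaCompat_preimmersion Φ.jS δE))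
      (k := k + 2) (fun ξ hξ => mem_Zk_c1 (γ := c1Cycle hE.2.2 hO A ut) hA rfl ξ (by omega)) fun _ => rfl
  have hO' : PicF.IsInvertible (Coh.structureModule Φ.S') := ParaFLib.isInvertible_structureModule
  have hζ₂ : ζ₂ ∈ Cyc.Zk Φ.D' (fun z => δE (Φ.jT (Φ.a z))) (k + 2 - 1) := mem_Zk_gysin Φ.b hdS hgα h₂
  -- the side of the deformation space
  have side₁ : ChowOps.cl ζ₂ hζ₂ = ChowOps.cl C₁ hC₁ := by
    refine (gysinCH_cl hS' Φ.b hdS hO' Φ.coord Φ.zero_coord hw' gα hgα ζ₂ h₂ hζ₂).symm.trans ?_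
    rw [← cl_eq_of_ratEquiv hγτ hgα eτ]
    refine gysinCH_pullFib (w := secs hO) (h := Φ.jS) (i := Φ.jT) (j := Φ.b) (g := Φ.a) Φ.sqD.flip hS' hE.1 hO
      Φ.zeroT (secs_ne_zero hO) hdS hO' (AmpleLib.pullO Φ.jS) Φ.coord Φ.zero_coord hw' γτ hγτ C₁ (fun z => ?_) hC₁
    show Cyc.c1CapFun δE (Coh.structureModule Φ.E) ⇑(c1Cycle hE.2.2 hM A uτ) _ ((Φ.b ≫ Φ.jS) z) = _
    rw [Scheme.Hom.comp_apply, c1CapFun_closed Φ.jS hE.2.2 hO _ hsuppτ]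
    rfl
  -- the side of the special fibre
  have hM' := AmpleLib.isInvertible_pullback Φ.jT hM
  have hMz : Cyc.IsZeroSchemeOf Φ.a ((Scheme.Modules.pullback Φ.jT).obj ((Scheme.Modules.pullback Φ.π).obj L))
      (pullSec Φ.jT _ Φ.τ) := isZeroSchemeOf_of_isPullback Φ.jT hM Φ.zeroS Φ.sqD
  obtain ⟨hpf, hpl, -, hdp, hshp, -⟩ := Φ.props_p hS hδE
  haveI := hpf; haveI := hpl
  have hζ₁ : ζ₁ ∈ Cyc.Zk Φ.D' (fun z => δE (Φ.jT (Φ.a z))) (k + 2 - 1) := fun x hx => by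
    let β := restrictCycle i (c1Cycle hS.2.2 hL α (Cyc.gysinChoice L σ w))
    exact Bivar.pullFun_mem_Zk Φ.p _ (fun d => δS (i d)) 1 k (α := β)
      (fun d hd => mem_Zk_gysin i (CycLib.deltaCompat_preimmersion i δS) hα (fun _ => rfl) d (by omega))
      ζ₁ h₁ x (by dsimp only at hx ⊢; omega)
  have side₂ : ChowOps.cl ζ₁ hζ₁ = ChowOps.cl C₂ hC₂ := by
    have hTz := isZeroSchemeOf_of_isPullback (Φ.jT ≫ Φ.π) hL hσ Φ.sqP
    refine (gysinCH_pullFib (w := w) (h := Φ.jT ≫ Φ.π) (i := i) (j := Φ.a) (g := Φ.p) Φ.sqP hT hS.1 hL hσ hw hdT hM'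
      (pullOverIso Φ.jT Φ.π (Φ.jT ≫ Φ.π) rfl L).symm (pullSec Φ.jT _ Φ.τ) hMz (secs_ne_zero hM') Tα hTα ζ₁
      (fun z => ?_) hζ₁).symm.trans ?_
    · refine Eq.trans ?_ (congrFun (pullFun_c1Cap hshT hT.2.2 hS.2.2 hL _ (gysinChoice_ne_zero hw) α) (Φ.a z))
      rw [pullFun_square Φ.sqP hσ 1 _ z, h₁]
    rw [← cl_eq_of_ratEquiv hγt hTα et]
    refine gysinCH_pullFib (w := secs hM) (h := Φ.jT) (i := Φ.jS) (j := Φ.a) (g := Φ.b) Φ.sqD hT hE.1 hM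
      Φ.zeroS (secs_ne_zero hM) hdT hM' (Iso.refl _) (pullSec Φ.jT _ Φ.τ) hMz (secs_ne_zero hM') γt hγt C₂
      (fun z => ?_) hC₂
    show Cyc.c1CapFun δE ((Scheme.Modules.pullback Φ.π).obj L) ⇑(c1Cycle hE.2.2 hO A ut) _ ((Φ.b ≫ Φ.jS) z) = _
    rw [← Φ.sqD.w, Scheme.Hom.comp_apply, c1CapFun_closed Φ.jT hE.2.2 hM _ hsuppt]
    rfl
  haveI : LocallyOfFiniteType (Φ.a ≫ Φ.jT ≫ Φ.π) := inferInstance
  haveI := LocallyOfFiniteType.isLocallyNoetherian (Φ.a ≫ Φ.jT ≫ Φ.π)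
  have hD' : Cyc.IsSetup Φ.D' (fun z => δE (Φ.jT (Φ.a z))) := isSetup_of_lft (Φ.a ≫ Φ.jT ≫ Φ.π) hS
    (Bivar.deltaCompat_comp Φ.a (Φ.jT ≫ Φ.π) _ _ _ hdT (Φ.deltaT hδE))
  refine ratEquiv_cast (show k + 2 - 1 = k + 1 by ring) (ratEquiv_of_cl_eq hD'.2.2 ?_ (hα := hζ₁) (hβ := hζ₂))
  rw [side₁, side₂]
  exact (cl_eq_of_ratEquiv hC₁ hC₂ (ratEquiv_cast (show k + 1 = k + 2 - 1 by ring) hC)).symm

end Groth.Agent.DeformLib
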