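import Mathlib
import Groth.Agent.DeformLib.Obstruction
import Groth.Agent.RegLocal.Basic

/-! The infinitesimal lifting criterion gives regularity. -/

set_option autoImplicit false

noncomputable section

namespace Groth.Agent.DeformLib

open IsLocalRing W4bk4hartshdef114

universe u

variable {k : Type u} [Field k]

theorem finite_of_smallExt {C : Type u} [CommRing C] [Algebra k C] [IsLocalRing C] [IsArtinianRing C]
    (hscal : ∀ x : C, ∃ c : k, x - algebraMap k C c ∈ nonunits C) : Module.Finite k C := by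
  classical
  obtain ⟨s, hs⟩ := IsNoetherian.noetherian (maximalIdeal C)
  obtain ⟨n, hn⟩ : IsNilpotent (maximalIdeal C) := by
    simpa [IsLocalRing.jacobson_eq_maximalIdeal] using IsArtinianRing.isNilpotent_jacobson_bot (R := C)
  have key : ∀ i : ℕ, ∃ W : Submodule k C, W.FG ∧ ∀ x : C, ∃ w ∈ W, x - w ∈ maximalIdeal C ^ i := by
    intro i
    induction i with
    | zero => exact ⟨⊥, Submodule.fg_bot, fun x => ⟨0, zero_mem _, by simp⟩⟩
    | succ i ih =>
      obtain ⟨W, hW, hWx⟩ := ih
      refine ⟨Submodule.span k {1} ⊔ s.sup fun g => W.map (LinearMap.mulRight k g), ?_, fun x => ?_⟩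
      · exact Submodule.FG.sup (Submodule.fg_span_singleton 1) (Submodule.fg_finset_sup _ _ fun g _ => hW.map _)
      · obtain ⟨c, hc⟩ := hscal x
        have hc' : x - algebraMap k C c ∈ Submodule.span C (s : Set C) := by rw [hs]; exact hc
        obtain ⟨a, -, ha⟩ := Submodule.mem_span_finset.mp hc'
        choose w hwW hw using fun g => hWx (a g)
        refine ⟨algebraMap k C c + ∑ g ∈ s, w g * g, Submodule.add_mem_sup ?_ (Submodule.sum_mem _ fun g hg => ?_), ?_⟩
        · exact Submodule.mem_span_singleton.mpr ⟨c, by rw [Algebra.smul_def, mul_one]⟩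
        · exact Finset.le_sup (f := fun g => W.map (LinearMap.mulRight k g)) hg ⟨w g, hwW g, rfl⟩
        · rw [← sub_sub, ← ha, ← Finset.sum_sub_distrib]
          refine Submodule.sum_mem _ fun g hg => ?_
          rw [smul_eq_mul, ← sub_mul, pow_succ]
          exact Ideal.mul_mem_mul (hw g) (by rw [← hs]; exact Submodule.subset_span hg)
  obtain ⟨W, hW, hWx⟩ := key n
  refine ⟨?_⟩
  rwa [show (⊤ : Submodule k C) = W from (eq_top_iff.mpr fun x _ => ?_).symm]
  obtain ⟨w, hw, hxw⟩ := hWx x
  rw [hn] at hxw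
  rwa [sub_eq_zero.mp (show x - w = 0 from hxw)]

/-- A quotient of a regular rational local algebra satisfying the lifting criterion is regular. -/
theorem isRegular_of_lifting {P A : Type u} [CommRing P] [IsRegularLocalRing P] [Algebra k P]
    [CommRing A] [IsLocalRing A] [Algebra k A]
    (hres : Function.Surjective (algebraMap k (ResidueField P))) (π : P →ₐ[k] A) (hπ : Function.Surjective π)
    (hlift : ∀ (B' : Type u) [CommRing B'] [IsLocalRing B'] [Algebra k B'] [Module.Finite k B'] (J : Ideal B'),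
      J ^ 2 = ⊥ → ∀ f : A →ₐ[k] B' ⧸ J, ∃ g : A →ₐ[k] B', (Ideal.Quotient.mkₐ k J).comp g = f) :
    IsRegularLocalRing A := by
  classical
  obtain ⟨K, ⟨hKle, hKreg⟩, hKmax⟩ := set_has_maximal_iff_noetherian.mpr (inferInstance : IsNoetherian P P)
    {K : Ideal P | K ≤ RingHom.ker π ∧ IsRegularLocalRing (P ⧸ K)}
    ⟨⊥, bot_le, IsRegularLocalRing.of_ringEquiv (RingEquiv.quotientBot P).symm⟩
  haveI := hKreg
  let π' : P ⧸ K →ₐ[k] A := Ideal.Quotient.liftₐ K π hKle
  have hπ' : Function.Surjective π' := fun a => by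
    obtain ⟨p, rfl⟩ := hπ a
    exact ⟨Ideal.Quotient.mk K p, rfl⟩
  set I := RingHom.ker π'
  have hres' : Function.Surjective (algebraMap k (ResidueField (P ⧸ K))) := fun y => by
    obtain ⟨y, rfl⟩ := residue_surjective y
    obtain ⟨p, rfl⟩ := Ideal.Quotient.mk_surjective y
    obtain ⟨c, hc⟩ := hres (residue P p)
    refine ⟨c, ?_⟩
    rw [IsScalarTower.algebraMap_apply k P (ResidueField P)] at hc
    change residue P (algebraMap k P c) = residue P p at hc
    rw [← sub_eq_zero, ← map_sub, residue_eq_zero_iff] at hc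
    rw [IsScalarTower.algebraMap_apply k (P ⧸ K) (ResidueField (P ⧸ K))]
    show residue (P ⧸ K) (Ideal.Quotient.mk K (algebraMap k P c)) = residue (P ⧸ K) (Ideal.Quotient.mk K p)
    rw [← sub_eq_zero, ← map_sub, ← map_sub, residue_eq_zero_iff]
    haveI : IsLocalHom (Ideal.Quotient.mk K) := IsLocalHom.of_surjective _ Ideal.Quotient.mk_surjective
    exact map_nonunit (Ideal.Quotient.mk K) _ hc
  have hI2 : I ≤ maximalIdeal (P ⧸ K) ^ 2 := by
    intro f hf
    by_contra hf2
    obtain ⟨d, hd⟩ := RegLocal.exists_nat_ringKrullDim (P ⧸ K)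
    have hfm : f ∈ maximalIdeal (P ⧸ K) := le_maximalIdeal (RingHom.ker_ne_top π') hf
    obtain ⟨hreg, -, -⟩ := RegLocal.quot_singleton (P ⧸ K) hd hfm hf2
    haveI := hreg
    obtain ⟨p, rfl⟩ := Ideal.Quotient.mk_surjective f
    have e : ((P ⧸ K) ⧸ (Ideal.span {p}).map (Ideal.Quotient.mk K)) ≃+* P ⧸ (K ⊔ Ideal.span {p}) :=
      DoubleQuot.quotQuotEquivQuotSup K (Ideal.span {p})
    haveI : IsRegularLocalRing ((P ⧸ K) ⧸ (Ideal.span {p}).map (Ideal.Quotient.mk K)) :=
      IsRegularLocalRing.of_ringEquiv (Ideal.quotEquivOfEq (by rw [Ideal.map_span, Set.image_singleton]))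
    refine hKmax (K ⊔ Ideal.span {p}) ⟨sup_le hKle ((Ideal.span_singleton_le_iff_mem _).mpr hf),
      IsRegularLocalRing.of_ringEquiv e⟩ (lt_of_le_of_ne le_sup_left fun h => hf2 ?_)
    rw [Ideal.Quotient.eq_zero_iff_mem.mpr (h ▸ Ideal.mem_sup_right (Ideal.mem_span_singleton_self p))]
    exact zero_mem _
  let eA : ((P ⧸ K) ⧸ I) ≃ₐ[k] A := Ideal.quotientKerAlgEquivOfSurjective hπ'
  let T : ObsTheory k ((P ⧸ K) ⧸ I) PUnit.{u + 1} :=
    { obs := fun C _ _ J _ => 0
      obs_eq_zero_iff := fun C _ _ J hC u => by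
        refine iff_of_true rfl ?_
        obtain ⟨hloc, hart, hscal, hkill, hJne⟩ := hC
        haveI := hloc
        haveI := hart
        haveI := finite_of_smallExt (k := k) hscal
        have hJ2 : J ^ 2 = ⊥ := by
          rw [eq_bot_iff, pow_two, Ideal.mul_le]
          intro x hx y hy
          rw [hkill x y (le_maximalIdeal hJne hx) hy]
          exact zero_mem _
        obtain ⟨g, hg⟩ := hlift C J hJ2 (u.comp eA.symm.toAlgHom)
        refine ⟨g.comp eA.toAlgHom, AlgHom.ext fun x => ?_⟩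
        have h1 := AlgHom.congr_fun hg (eA x)
        simp only [AlgHom.comp_apply] at h1 ⊢
        exact h1.trans (congrArg u (eA.symm_apply_apply x))
      obs_quot := fun C _ _ J L _ _ _ => Subsingleton.elim _ _ }
  obtain ⟨s, hs, hspan⟩ := exists_generators hres' I hI2 T
  have hbot : I = ⊥ := by
    rw [Module.finrank_zero_of_subsingleton, Nat.le_zero, Finset.card_eq_zero] at hs
    rw [← hspan, hs]
    simp
  exact IsRegularLocalRing.of_ringEquiv (RingEquiv.ofBijective π'
    ⟨(RingHom.injective_iff_ker_eq_bot _).mpr hbot, hπ'⟩)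

end Groth.Agent.DeformLib
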