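import Mathlib
import Groth.Agent.DeformLib.NilpLocal

/-! Deformations of smooth algebras over augmented Artinian local algebras are trivial. -/

set_option autoImplicit false

noncomputable section

namespace Groth.Agent.DeformLib

open IsLocalRing TensorProduct

universe u

theorem exists_trivialization {k A B B₀ : Type u} [Field k] [CommRing A] [IsLocalRing A] [IsArtinianRing A]
    [Algebra k A] (e : A →ₐ[k] k) [CommRing B] [Algebra A B] [Algebra k B] [IsScalarTower k A B] [Module.Flat A B]
    [CommRing B₀] [Algebra k B₀] [Algebra.FormallySmooth k B₀] (π : B →ₐ[k] B₀) (hπ : Function.Surjective π)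
    (hker : RingHom.ker π = (RingHom.ker e).map (algebraMap A B)) :
    ∃ s : B₀ →ₐ[k] B, Function.Bijective (Algebra.TensorProduct.lift s (IsScalarTower.toAlgHom k A B)
      fun _ _ => Commute.all _ _) := by
  have he : Function.Surjective e := fun c => ⟨algebraMap k A c, e.commutes c⟩
  have hkere : RingHom.ker e = maximalIdeal A :=
    IsLocalRing.eq_maximalIdeal (RingHom.ker_isMaximal_of_surjective e he)
  have hm : IsNilpotent (maximalIdeal A) := by
    simpa [IsLocalRing.jacobson_eq_maximalIdeal] using IsArtinianRing.isNilpotent_jacobson_bot (R := A)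
  have hnil : IsNilpotent (RingHom.ker π) := by
    obtain ⟨n, hn⟩ := hm
    exact ⟨n, by rw [hker, hkere, ← Ideal.map_pow, hn]; exact Ideal.map_bot⟩
  obtain ⟨s, hs⟩ : ∃ s : B₀ →ₐ[k] B, ∀ x, π (s x) = x :=
    ⟨Algebra.FormallySmooth.liftOfSurjective (AlgHom.id k B₀) π hπ hnil,
      fun x => Algebra.FormallySmooth.liftOfSurjective_apply _ _ hπ hnil x⟩
  refine ⟨s, ?_⟩
  set Φ := Algebra.TensorProduct.lift s (IsScalarTower.toAlgHom k A B) fun _ _ => Commute.all _ _
  letI : Algebra A (B₀ ⊗[k] A) := Algebra.TensorProduct.rightAlgebra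
  have hsm : ∀ (a : A) (z : B₀ ⊗[k] A), a • z = (1 : B₀) ⊗ₜ a * z := fun a z => Algebra.smul_def a z
  let u : B₀ ⊗[k] A →ₗ[A] B :=
    { toFun := Φ
      map_add' := map_add Φ
      map_smul' := fun a z => by
        rw [RingHom.id_apply, hsm, map_mul, Algebra.smul_def]
        congr 1
        simp [Φ] }
  let p : B₀ ⊗[k] A →ₐ[k] B₀ :=
    Algebra.TensorProduct.lift (AlgHom.id k B₀) ((Algebra.ofId k B₀).comp e) fun _ _ => Commute.all _ _
  have hsplit : ∀ z, z - p z ⊗ₜ 1 ∈ (maximalIdeal A • ⊤ : Submodule A (B₀ ⊗[k] A)) := by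
    intro z
    induction z with
    | zero => simp
    | add x y hx hy => rw [map_add, TensorProduct.add_tmul, add_sub_add_comm]; exact add_mem hx hy
    | tmul b a =>
      have h1 : a - algebraMap k A (e a) ∈ maximalIdeal A := by
        rw [← hkere, RingHom.mem_ker, map_sub, AlgHom.commutes]; exact sub_self _
      have h2 := Submodule.smul_mem_smul h1 (Submodule.mem_top (x := b ⊗ₜ[k] (1 : A)))
      rw [hsm, Algebra.TensorProduct.tmul_mul_tmul, one_mul, mul_one] at h2
      convert h2 using 1
      rw [show p (b ⊗ₜ a) = b * algebraMap k B₀ (e a) by simp [p, Algebra.ofId_apply], TensorProduct.tmul_sub,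
        mul_comm, ← Algebra.smul_def, TensorProduct.smul_tmul, Algebra.smul_def, mul_one]
  have hπmem : ∀ x : B, π x = 0 ↔ x ∈ (maximalIdeal A • ⊤ : Submodule A B) := fun x => by
    rw [Ideal.smul_top_eq_map, Submodule.restrictScalars_mem, ← hkere, ← hker]
    exact (RingHom.mem_ker (f := π)).symm
  have hπΦ : ∀ z, π (Φ z) = p z := fun z => by
    induction z with
    | zero => simp
    | add x y hx hy => simp only [map_add, hx, hy]
    | tmul b a =>
      have h1 : π (algebraMap A B a) = algebraMap k B₀ (e a) := by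
        have h2 : π (algebraMap A B (a - algebraMap k A (e a))) = 0 := by
          rw [← RingHom.mem_ker, hker]
          exact Ideal.mem_map_of_mem _ (by rw [RingHom.mem_ker, map_sub, AlgHom.commutes]; exact sub_self _)
        rw [map_sub, map_sub, ← IsScalarTower.algebraMap_apply, AlgHom.commutes, sub_eq_zero] at h2
        exact h2
      simp [Φ, p, hs, h1, Algebra.ofId_apply]
  refine ⟨(injective_flat_of_nilpotent hm u fun z hz => ?_).1, fun x => ?_⟩
  · have h1 : p z = 0 := by rw [← hπΦ]; exact (hπmem _).mpr hz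
    have h2 := hsplit z
    rwa [h1, TensorProduct.zero_tmul, sub_zero] at h2
  · have key : ∀ n : ℕ, ∀ x : B, ∃ z, x - u z ∈ (maximalIdeal A ^ n • ⊤ : Submodule A B) := by
      intro n
      induction n with
      | zero => exact fun x => ⟨0, by simp [Ideal.map_top]⟩
      | succ n ih =>
        have step : ∀ y ∈ (maximalIdeal A ^ n • ⊤ : Submodule A B),
            ∃ z, y - u z ∈ (maximalIdeal A ^ (n + 1) • ⊤ : Submodule A B) := by
          intro y hy
          induction hy using Submodule.smul_induction_on' with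
          | smul a ha y _ =>
            have h0 : y - u (π y ⊗ₜ[k] (1 : A)) ∈ (maximalIdeal A • ⊤ : Submodule A B) := (hπmem _).mp (by
              rw [map_sub, show π (u (π y ⊗ₜ[k] (1 : A))) = p (π y ⊗ₜ[k] (1 : A)) from hπΦ (π y ⊗ₜ[k] (1 : A))]
              simp [p])
            refine ⟨a • (π y ⊗ₜ 1), ?_⟩
            rw [map_smul, ← smul_sub, pow_succ, Submodule.mul_smul]
            exact Submodule.smul_mem_smul ha h0
          | add y _ w _ hy hw =>
            obtain ⟨z, hz⟩ := hy
            obtain ⟨z', hz'⟩ := hw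
            exact ⟨z + z', by rw [map_add, add_sub_add_comm]; exact add_mem hz hz'⟩
        intro x
        obtain ⟨z, hz⟩ := ih x
        obtain ⟨z', hz'⟩ := step _ hz
        exact ⟨z + z', by rw [map_add, ← sub_sub]; exact hz'⟩
    obtain ⟨n, hn⟩ := hm
    obtain ⟨z, hz⟩ := key n x
    rw [hn] at hz
    exact ⟨z, (sub_eq_zero.mp (show x - u z = 0 by simpa using hz)).symm⟩

end Groth.Agent.DeformLib
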