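import Groth.Agent.DeformLib.Identity
import Groth.Agent.BivarLib.Pieces
import Groth.Prelude.Def_W4stkchowbivarWeakCl

/-!
# Rules compatible with trivialised Gysin maps are bivariant classes
-/

set_option autoImplicit false
set_option backward.isDefEq.respectTransparency false
set_option linter.style.haveILetI false

universe u

open CategoryTheory CategoryTheory.Limits AlgebraicGeometry
open Groth.Agent.CycLib Groth.Agent.BivarLib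

noncomputable section

namespace Groth.Agent.DeformLib

/-- The maps of a base change of deformation spaces. -/
theorem Deform.exists_squares {S D : Scheme.{u}} {i : D ⟶ S} {L : S.Modules} (Φ : Deform i L)
    (hL : PicF.IsInvertible L) {S'' D'' : Scheme.{u}} (f : S'' ⟶ S) {i'' : D'' ⟶ S''} {gD : D'' ⟶ D}
    (sq : IsPullback gD i'' i f) :
    ∃ (gS : (Φ.baseChange hL f sq).S' ⟶ Φ.S') (gP : (Φ.baseChange hL f sq).D' ⟶ Φ.D'),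
      IsPullback gS ((Φ.baseChange hL f sq).jS ≫ (Φ.baseChange hL f sq).π) (Φ.jS ≫ Φ.π) f ∧
      IsPullback gP (Φ.baseChange hL f sq).p Φ.p gD ∧ IsPullback gP (Φ.baseChange hL f sq).b Φ.b gS := by
  let gE : pullback Φ.π f ⟶ Φ.E := pullback.fst Φ.π f
  have sqE : IsPullback gE (pullback.snd Φ.π f) Φ.π f := IsPullback.of_hasPullback _ _
  let gT : pullback Φ.jT gE ⟶ Φ.T := pullback.fst Φ.jT gE
  have sqT : IsPullback gT (pullback.snd Φ.jT gE) Φ.jT gE := IsPullback.of_hasPullback _ _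
  let gS : pullback Φ.jS gE ⟶ Φ.S' := pullback.fst Φ.jS gE
  have sqS : IsPullback gS (pullback.snd Φ.jS gE) Φ.jS gE := IsPullback.of_hasPullback _ _
  let a₁ := pullback.fst (pullback.snd Φ.jT gE) (pullback.snd Φ.jS gE)
  let b₁ := pullback.snd (pullback.snd Φ.jT gE) (pullback.snd Φ.jS gE)
  let k : pullback (pullback.snd Φ.jT gE) (pullback.snd Φ.jS gE) ⟶ Φ.D' := Φ.sqD.lift (a₁ ≫ gT) (b₁ ≫ gS) (by
    rw [Category.assoc, sqT.w, Category.assoc, sqS.w, ← Category.assoc, ← Category.assoc]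
    exact congrArg (· ≫ gE) pullback.condition)
  have hk₁ : k ≫ Φ.a = a₁ ≫ gT := Φ.sqD.lift_fst _ _ _
  have hk₂ : k ≫ Φ.b = b₁ ≫ gS := Φ.sqD.lift_snd _ _ _
  have sqb : IsPullback k b₁ Φ.b gS := IsPullback.of_right
    (by rw [hk₁, sqS.w]; exact (IsPullback.of_hasPullback _ _).paste_horiz sqT) hk₂ Φ.sqD
  refine ⟨gS, k, sqS.paste_vert sqE, ?_, sqb⟩
  have sqk : IsPullback k a₁ Φ.a gT := IsPullback.of_bot
    (by
      rw [Φ.sqD.w, show a₁ ≫ pullback.snd Φ.jT gE = b₁ ≫ pullback.snd Φ.jS gE from pullback.condition]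
      exact sqb.paste_vert sqS) hk₁ sqT
  have hw : (Φ.baseChange hL f sq).p ≫ gD = k ≫ Φ.p := sq.lift_fst _ _ _
  have hp₂ : (Φ.baseChange hL f sq).p ≫ i'' = a₁ ≫ pullback.snd Φ.jT gE ≫ pullback.snd Φ.π f := sq.lift_snd _ _ _
  exact IsPullback.of_bot (by rw [hp₂, ← Φ.sqP.w]; exact sqk.paste_vert (sqT.paste_vert sqE)) hw.symm sq

section Reps

variable {X Y : Scheme.{u}} {δX : X → ℤ} {δY : Y → ℤ} {f : X ⟶ Y} {p : ℤ}
  (hX : Cyc.IsSetup X δX) (c : Bivar.WeakCl p f δX δY)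

include hX in
/-- Compatibility of a rule with flat pullback, for any representatives. -/
theorem weak_pull (s t : Bivar.Sq f δX δY) (h : t.Y' ⟶ s.Y') [Flat h] (h' : t.X' ⟶ s.X') [Flat h'] (r : ℕ)
    (hr : Cyc.HasRelDim h r) (hr' : Cyc.HasRelDim h' r) (w₁ : h ≫ s.g = t.g) (w₂ : h' ≫ s.f' = t.f' ≫ h)
    (w₃ : h' ≫ s.g' = t.g') {k : ℤ} (α : AlgebraicCycle s.Y' ℤ) (hα : α ∈ Cyc.Zk s.Y' s.δY' k)
    (β : AlgebraicCycle s.X' ℤ) (hβ : β ∈ Cyc.Zk s.X' s.δX' (k - p))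
    (e : c.op s k (ChowOps.cl α hα) = ChowOps.cl β hβ) (α₁ : AlgebraicCycle t.Y' ℤ)
    (hc : ⇑α₁ = Cyc.pullFun h t.δY' s.δY' (r : ℤ) ⇑α) (hα₁ : α₁ ∈ Cyc.Zk t.Y' t.δY' (k + r))
    (β₁ : AlgebraicCycle t.X' ℤ) (hb : ⇑β₁ = Cyc.pullFun h' t.δX' s.δX' (r : ℤ) ⇑β)
    (hβ₁ : β₁ ∈ Cyc.Zk t.X' t.δX' (k + r - p)) :
    c.op t (k + r) (ChowOps.cl α₁ hα₁) = ChowOps.cl β₁ hβ₁ := by
  haveI := (isSetup_X' hX s).1
  haveI := (isSetup_X' hX t).1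
  obtain ⟨β', hβ', e₁, H⟩ := c.pull s t h h' r hr hr' w₁ w₂ w₃ k α hα
  obtain ⟨β₁', hβ₁', hb', e₂⟩ := H α₁ hc hα₁
  rw [e₂]
  haveI : LocallyOfFiniteType (h' ≫ s.g') := w₃ ▸ lft_g' t
  haveI := locallyOfFiniteType_of_comp h' s.g'
  have hs : IsShift h' t.δX' s.δX' (r : ℤ) := IsShift.of_relDim (isSetup_X' hX t) (isSetup_X' hX s) r hr'
    (deltaCompat_of_comp h' s.g' (by rw [w₃]; exact t.compatX) s.compatX)
  refine cl_eq_of_ratEquiv _ _ ?_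
  have h0 : Cyc.RatEquiv s.δX' (k - p) β' β :=
    ratEquiv_of_cl_eq (isSetup_X' hX s).2.2 (hα := hβ') (hβ := hβ) (e₁.symm.trans e)
  show Cyc.RatEquivZero t.δX' (k + r - p) (β₁' - β₁)
  rw [show k + (r : ℤ) - p = k - p + r by ring,
    show β₁' = pullHom hs (isSetup_X' hX t).2.2 β' from DFunLike.coe_injective hb',
    show β₁ = pullHom hs (isSetup_X' hX t).2.2 β from DFunLike.coe_injective hb, ← map_sub]
  exact ratEquivZero_pull hs (isSetup_X' hX t).2.2 (isSetup_X' hX s).2.2 h0 _ rfl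

include hX in
/-- Compatibility of a rule with trivialised Gysin maps, for any representatives. -/
theorem weak_gysin (s t : Bivar.Sq f δX δY) (i : t.Y' ⟶ s.Y') [IsClosedImmersion i] (j : t.X' ⟶ s.X')
    [IsClosedImmersion j] (w₁ : i ≫ s.g = t.g) (w₂ : j ≫ s.f' = t.f' ≫ i) (w₃ : j ≫ s.g' = t.g')
    {L : s.Y'.Modules} (hL : PicF.IsInvertible L)
    (htriv : Nonempty ((Scheme.Modules.pullback i).obj L ≅ Coh.structureModule t.Y'))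
    {σ : L.presheaf.obj (Opposite.op ⊤)} (hσ : Cyc.IsZeroSchemeOf i L σ)
    {τ : ((Scheme.Modules.pullback s.f').obj L).presheaf.obj (Opposite.op ⊤)}
    (hτ : Cyc.IsZeroSchemeOf j ((Scheme.Modules.pullback s.f').obj L) τ)
    {k : ℤ} (α : AlgebraicCycle s.Y' ℤ) (hα : α ∈ Cyc.Zk s.Y' s.δY' k) (β : AlgebraicCycle s.X' ℤ)
    (hβ : β ∈ Cyc.Zk s.X' s.δX' (k - p)) (e : c.op s k (ChowOps.cl α hα) = ChowOps.cl β hβ)
    {w : (ξ : s.Y') → Cyc.secFibre L ξ} (hw : ∀ ξ, w ξ ≠ 0) (γ : AlgebraicCycle t.Y' ℤ)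
    (hγ : ∀ d, γ d = Cyc.c1CapFun s.δY' L ⇑α (Cyc.gysinChoice L σ w) (i d))
    (hγk : γ ∈ Cyc.Zk t.Y' t.δY' (k - 1))
    {w' : (ξ : s.X') → Cyc.secFibre ((Scheme.Modules.pullback s.f').obj L) ξ} (hw' : ∀ ξ, w' ξ ≠ 0)
    (ζ : AlgebraicCycle t.X' ℤ)
    (hζ : ∀ d, ζ d = Cyc.c1CapFun s.δX' ((Scheme.Modules.pullback s.f').obj L) ⇑β
      (Cyc.gysinChoice ((Scheme.Modules.pullback s.f').obj L) τ w') (j d))
    (hζk : ζ ∈ Cyc.Zk t.X' t.δX' (k - 1 - p)) :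
    c.op t (k - 1) (ChowOps.cl γ hγk) = ChowOps.cl ζ hζk := by
  obtain ⟨β', hβ', e₁, H⟩ := c.gysinTriv s t i j w₁ w₂ w₃ L hL htriv σ hσ τ hτ k α hα
  obtain ⟨ζ', hζ', hz, e₂⟩ := H w hw γ hγ hγk w' hw'
  rw [e₂]
  have ed : k - 1 - p = k - p - 1 := by ring
  have hdj : Cyc.DeltaCompat j t.δX' s.δX' := deltaCompat_of_comp j s.g' (by rw [w₃]; exact t.compatX) s.compatX
  have hL' := AmpleLib.isInvertible_pullback s.f' hL
  have g₁ := gysinCH_cl (isSetup_X' hX s) j hdj hL' τ hτ hw' β' hβ' ζ' hz (ed ▸ hζ')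
  have g₂ := gysinCH_cl (isSetup_X' hX s) j hdj hL' τ hτ hw' β hβ ζ hζ (ed ▸ hζk)
  rw [e₁.symm.trans e] at g₁
  have h2 := congrArg (Bivar.chCast t.X' t.δX' ed.symm) (g₁.symm.trans g₂)
  rwa [Bivar.chCast_cl, Bivar.chCast_cl] at h2

include hX in
/-- Rules respect rational equivalence of representatives, whatever the name of the degree. -/
theorem ratEquiv_op (s : Bivar.Sq f δX δY) {k l : ℤ} (h : k = l) {α β : AlgebraicCycle s.Y' ℤ}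
    (hα : α ∈ Cyc.Zk s.Y' s.δY' k) (hβ : β ∈ Cyc.Zk s.Y' s.δY' l) (hab : Cyc.RatEquiv s.δY' k α β)
    {ξ η : AlgebraicCycle s.X' ℤ} (hξ : ξ ∈ Cyc.Zk s.X' s.δX' (k - p)) (hη : η ∈ Cyc.Zk s.X' s.δX' (l - p))
    (e₁ : c.op s k (ChowOps.cl α hα) = ChowOps.cl ξ hξ) (e₂ : c.op s l (ChowOps.cl β hβ) = ChowOps.cl η hη) :
    Cyc.RatEquiv s.δX' (k - p) ξ η := by
  subst h
  haveI := (isSetup_X' hX s).1
  refine ratEquiv_of_cl_eq (isSetup_X' hX s).2.2 (hα := hξ) (hβ := hη) ?_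
  rw [← e₁, ← e₂, cl_eq_of_ratEquiv hα hβ hab]

end Reps

variable {X Y : Scheme.{u}} {δX : X → ℤ} {δY : Y → ℤ} {f : X ⟶ Y} {p : ℤ}
  (hX : Cyc.IsSetup X δX) (hY : Cyc.IsSetup Y δY) (c : Bivar.WeakCl p f δX δY)

include hX hY in
/-- A rule is compatible with all Gysin maps. -/
theorem gysinOK (s t : Bivar.Sq f δX δY) (i : t.Y' ⟶ s.Y') [IsClosedImmersion i] (j : t.X' ⟶ s.X')
    [IsClosedImmersion j] (w₁ : i ≫ s.g = t.g) (w₂ : j ≫ s.f' = t.f' ≫ i) (w₃ : j ≫ s.g' = t.g')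
    {L : s.Y'.Modules} (hL : PicF.IsInvertible L) {σ : L.presheaf.obj (Opposite.op ⊤)}
    (hσ : Cyc.IsZeroSchemeOf i L σ) (τ : ((Scheme.Modules.pullback s.f').obj L).presheaf.obj (Opposite.op ⊤))
    (hτ : Cyc.IsZeroSchemeOf j ((Scheme.Modules.pullback s.f').obj L) τ) (k : ℤ) :
    Bivar.GysinOK s.δY' t.δY' s.δX' t.δX' i L σ j ((Scheme.Modules.pullback s.f').obj L) τ (c.op s k)
      (c.op t (k - 1)) := by
  have hsY := isSetup_Y' hY s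
  have hsX := isSetup_X' hX s
  haveI := hsY.1
  haveI := hsX.1
  haveI := (isSetup_X' hX t).1
  haveI := s.lft
  intro α hα
  obtain ⟨β, hβ, eβ⟩ := Bivar.exists_rep (c.op s k (ChowOps.cl α hα))
  refine ⟨β, hβ, eβ.symm, fun w hw γ hγ hγk w' hw' => ?_⟩
  have hdi : Cyc.DeltaCompat i t.δY' s.δY' := deltaCompat_of_comp i s.g (by rw [w₁]; exact t.compatY) s.compatY
  have hdj : Cyc.DeltaCompat j t.δX' s.δX' := deltaCompat_of_comp j s.g' (by rw [w₃]; exact t.compatX) s.compatX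
  have et : t.δY' = fun d => s.δY' (i d) := delta_unique hdi (CycLib.deltaCompat_preimmersion i s.δY')
  have et' : t.δX' = fun d => s.δX' (j d) := delta_unique hdj (CycLib.deltaCompat_preimmersion j s.δX')
  have hM := AmpleLib.isInvertible_pullback s.f' hL
  let ζ := restrictCycle j (c1Cycle hsX.2.2 hM β (Cyc.gysinChoice _ τ w'))
  have hζ : ζ ∈ Cyc.Zk t.X' t.δX' (k - p - 1) := mem_Zk_gysin j hdj hβ fun _ => rfl
  have hζ' : ζ ∈ Cyc.Zk t.X' t.δX' (k - 1 - p) := fun x hx => hζ x (by omega)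
  refine ⟨ζ, hζ', fun _ => rfl, ?_⟩
  obtain ⟨ξ, hξ, eξ⟩ := Bivar.exists_rep (c.op t (k - 1) (ChowOps.cl γ hγk))
  rw [← eξ]
  -- the deformation spaces
  obtain ⟨Φ⟩ := exists_deform hL i hσ
  have sq : IsPullback t.f' j i s.f' :=
    (IsPullback.of_right (by rw [w₃, w₁]; exact t.isPullback.flip) w₂ s.isPullback.flip).flip
  let Φ' := Φ.baseChange hL s.f' sq
  obtain ⟨gS, gP, sqG, sqp, sqb⟩ := Φ.exists_squares hL s.f' sq
  obtain ⟨δE, hδE⟩ : ∃ δE : Φ.E → ℤ, Cyc.DeltaCompat Φ.π δE s.δY' := by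
    obtain ⟨_, _, _, _⟩ := VBundLib.isAffineHom_of_locTriv Φ.locE
    exact exists_delta Φ.π s.δY'
  obtain ⟨δE', hδE'⟩ : ∃ δE' : Φ'.E → ℤ, Cyc.DeltaCompat Φ'.π δE' s.δX' := by
    obtain ⟨_, _, _, _⟩ := VBundLib.isAffineHom_of_locTriv Φ'.locE
    exact exists_delta Φ'.π s.δX'
  obtain ⟨hgf, hgl, -, hshg, hrg⟩ := Φ.props_g hsY hL hδE
  obtain ⟨hgf', hgl', -, hshg', hrg'⟩ := Φ'.props_g hsX hM hδE'
  obtain ⟨hpf, hpl, -, hdp, hshp, hrp⟩ := Φ.props_p (i := i) hsY hδE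
  obtain ⟨hpf', hpl', -, hdp', hshp', hrp'⟩ := Φ'.props_p (i := j) hsX hδE'
  haveI := hgf; haveI := hgl; haveI := hgf'; haveI := hgl'; haveI := hpf; haveI := hpl; haveI := hpf'; haveI := hpl'
  haveI : LocallyOfFiniteType i := inferInstance
  haveI := t.lft
  let s₁ : Bivar.Sq f δX δY :=
    { Y' := Φ.S'
      X' := Φ'.S'
      g := (Φ.jS ≫ Φ.π) ≫ s.g
      f' := gS
      g' := (Φ'.jS ≫ Φ'.π) ≫ s.g'
      isPullback := sqG.paste_vert s.isPullback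
      lft := inferInstance
      δY' := fun z => δE (Φ.jS z)
      δX' := fun z => δE' (Φ'.jS z)
      compatY := Bivar.deltaCompat_comp _ _ _ _ _ (Φ.deltaS hδE) s.compatY
      compatX := Bivar.deltaCompat_comp _ _ _ _ _ (Φ'.deltaS hδE') s.compatX }
  let s₂ : Bivar.Sq f δX δY :=
    { Y' := Φ.D'
      X' := Φ'.D'
      g := Φ.p ≫ t.g
      f' := gP
      g' := Φ'.p ≫ t.g'
      isPullback := sqp.paste_vert t.isPullback
      lft := inferInstance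
      δY' := fun z => δE (Φ.jT (Φ.a z))
      δX' := fun z => δE' (Φ'.jT (Φ'.a z))
      compatY := Bivar.deltaCompat_comp _ _ _ t.δY' _ (et ▸ hdp) t.compatY
      compatX := Bivar.deltaCompat_comp _ _ _ t.δX' _ (et' ▸ hdp') t.compatX }
  have hD' := isSetup_X' hX s₂
  haveI := hD'.1
  haveI := (isSetup_Y' hY s₁).1
  haveI := (isSetup_Y' hY s₂).1
  haveI := (isSetup_X' hX s₁).1
  haveI := Φ.closed_b
  haveI := Φ'.closed_b
  -- flat pullback to the deformation spaces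
  let gα := pullCycle hshg (isSetup_Y' hY s₁).2.2 α
  let gβ := pullCycle hshg' (isSetup_X' hX s₁).2.2 β
  have hgα : gα ∈ Cyc.Zk Φ.S' s₁.δY' (k + 1) := Bivar.pullFun_mem_Zk _ _ s.δY' 1 k hα gα rfl
  have hgβ : gβ ∈ Cyc.Zk Φ'.S' s₁.δX' (k + 1 - p) := fun x hx =>
    Bivar.pullFun_mem_Zk _ _ s.δX' 1 (k - p) hβ gβ rfl x (by dsimp only [s₁] at hx ⊢; omega)
  have e1 : c.op s₁ (k + (1 : ℕ)) (ChowOps.cl gα hgα) = ChowOps.cl gβ hgβ :=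
    weak_pull hX c s s₁ (Φ.jS ≫ Φ.π) (Φ'.jS ≫ Φ'.π) 1 hrg hrg' rfl sqG.w.symm rfl α hα β hβ eβ.symm gα rfl hgα gβ
      rfl hgβ
  -- the Gysin maps of the coordinates
  have hO : PicF.IsInvertible (Coh.structureModule Φ.S') := ParaFLib.isInvertible_structureModule
  have hO' : PicF.IsInvertible (Coh.structureModule Φ'.S') := ParaFLib.isInvertible_structureModule
  have hgO := AmpleLib.isInvertible_pullback gS hO
  have hzb : Cyc.IsZeroSchemeOf Φ'.b ((Scheme.Modules.pullback gS).obj (Coh.structureModule Φ.S'))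
      (pullSec gS _ Φ.coord) := isZeroSchemeOf_of_isPullback gS hO Φ.zero_coord sqb.flip
  let γ₁ := restrictCycle Φ.b (c1Cycle (isSetup_Y' hY s₁).2.2 hO gα (Cyc.gysinChoice _ Φ.coord (secs hO)))
  let ζ₁ := restrictCycle Φ'.b (c1Cycle (isSetup_X' hX s₁).2.2 hgO gβ
    (Cyc.gysinChoice _ (pullSec gS _ Φ.coord) (secs hgO)))
  have w₁₂ : Φ.b ≫ s₁.g = s₂.g := by
    show Φ.b ≫ (Φ.jS ≫ Φ.π) ≫ s.g = Φ.p ≫ t.g
    rw [← w₁]
    simp only [Category.assoc]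
    rw [← reassoc_of% Φ.sqD.w, reassoc_of% Φ.sqP.w]
  have w₁₂' : Φ'.b ≫ s₁.g' = s₂.g' := by
    show Φ'.b ≫ (Φ'.jS ≫ Φ'.π) ≫ s.g' = Φ'.p ≫ t.g'
    rw [← w₃]
    simp only [Category.assoc]
    rw [← reassoc_of% Φ'.sqD.w, reassoc_of% Φ'.sqP.w]
  have hdb : Cyc.DeltaCompat Φ.b s₂.δY' s₁.δY' :=
    deltaCompat_of_comp Φ.b s₁.g (by rw [w₁₂]; exact s₂.compatY) s₁.compatY
  have hdb' : Cyc.DeltaCompat Φ'.b s₂.δX' s₁.δX' :=
    deltaCompat_of_comp Φ'.b s₁.g' (by rw [w₁₂']; exact s₂.compatX) s₁.compatX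
  have hγ₁ : γ₁ ∈ Cyc.Zk Φ.D' s₂.δY' (k + (1 : ℕ) - 1) := mem_Zk_gysin Φ.b hdb hgα fun _ => rfl
  have hζ₁ : ζ₁ ∈ Cyc.Zk Φ'.D' s₂.δX' (k + (1 : ℕ) - p - 1) := mem_Zk_gysin Φ'.b hdb' hgβ fun _ => rfl
  have hζ₁' : ζ₁ ∈ Cyc.Zk Φ'.D' s₂.δX' (k + (1 : ℕ) - 1 - p) := fun x hx => hζ₁ x (by omega)
  have e2 : c.op s₂ (k + (1 : ℕ) - 1) (ChowOps.cl γ₁ hγ₁) = ChowOps.cl ζ₁ hζ₁' :=
    weak_gysin hX c s₁ s₂ Φ.b Φ'.b w₁₂ sqb.w.symm w₁₂' hO ⟨AmpleLib.pullO Φ.b⟩ Φ.zero_coord hzb gα hgα gβ hgβ e1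
      (secs_ne_zero hO) γ₁ (fun _ => rfl) hγ₁ (secs_ne_zero hgO) ζ₁ (fun _ => rfl) hζ₁'
  -- flat pullback to the special fibres
  have hshp₁ : IsShift Φ.p s₂.δY' t.δY' 1 := et ▸ hshp
  have hshp₂ : IsShift Φ'.p s₂.δX' t.δX' 1 := et' ▸ hshp'
  let pγ := pullCycle hshp₁ (isSetup_Y' hY s₂).2.2 γ
  let pξ := pullCycle hshp₂ hD'.2.2 ξ
  let pζ := pullCycle hshp₂ hD'.2.2 ζ
  have hpγ : pγ ∈ Cyc.Zk Φ.D' s₂.δY' (k - 1 + (1 : ℕ)) := Bivar.pullFun_mem_Zk _ _ t.δY' 1 (k - 1) hγk pγ rfl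
  have hpξ : pξ ∈ Cyc.Zk Φ'.D' s₂.δX' (k - 1 + (1 : ℕ) - p) := fun x hx =>
    Bivar.pullFun_mem_Zk _ _ t.δX' 1 (k - 1 - p) hξ pξ rfl x (by dsimp only [s₂] at hx ⊢; omega)
  have e3 : c.op s₂ (k - 1 + (1 : ℕ)) (ChowOps.cl pγ hpγ) = ChowOps.cl pξ hpξ :=
    weak_pull hX c t s₂ Φ.p Φ'.p 1 hrp hrp' rfl sqp.w.symm rfl γ hγk ξ hξ eξ.symm pγ rfl hpγ pξ rfl hpξ
  -- the two identities
  have r₁ : Cyc.RatEquiv s₂.δY' (k - 1 + 1) pγ γ₁ := Φ.ratEquiv_gysin hsY hL hσ hδE α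
    (by rw [sub_add_cancel]; exact hα) hw (secs_ne_zero hO) pγ γ₁
    (by rw [show (fun d => Cyc.c1CapFun s.δY' L ⇑α (Cyc.gysinChoice L σ w) (i d)) = ⇑γ from
          funext fun d => (hγ d).symm, ← et]
        rfl)
    fun _ => rfl
  let ζ₂ := restrictCycle Φ'.b (c1Cycle (isSetup_X' hX s₁).2.2 hO' gβ (Cyc.gysinChoice _ Φ'.coord (secs hO')))
  have r₂ : Cyc.RatEquiv s₂.δX' (k - p - 1 + 1) pζ ζ₂ := Φ'.ratEquiv_gysin hsX hM hτ hδE' β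
    (by rw [sub_add_cancel]; exact hβ) hw' (secs_ne_zero hO') pζ ζ₂
    (by rw [← et']; rfl) fun _ => rfl
  have hζ₂ : ζ₂ ∈ Cyc.Zk Φ'.D' s₂.δX' (k + (1 : ℕ) - p - 1) := mem_Zk_gysin Φ'.b hdb' hgβ fun _ => rfl
  have r₃ : Cyc.RatEquiv s₂.δX' (k + (1 : ℕ) - p - 1) ζ₂ ζ₁ := by
    let γ₀ := restrictCycle Φ'.b (c1Cycle (isSetup_X' hX s₁).2.2 hgO gβ
      fun ξ => pullFib gS _ ξ (Cyc.gysinChoice _ Φ.coord (secs hO) (gS ξ)))
    have hγ₀ : γ₀ ∈ Cyc.Zk Φ'.D' s₂.δX' (k + (1 : ℕ) - p - 1) := mem_Zk_gysin Φ'.b hdb' hgβ fun _ => rfl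
    refine ratEquiv_of_cl_eq hD'.2.2 (hα := hζ₂) (hβ := hζ₁) ?_
    rw [← gysinCH_cl (isSetup_X' hX s₁) Φ'.b hdb' hO' Φ'.coord Φ'.zero_coord (secs_ne_zero hO') gβ hgβ ζ₂
        (fun _ => rfl) hζ₂,
      ← gysinCH_cl (isSetup_X' hX s₁) Φ'.b hdb' hgO _ hzb (secs_ne_zero hgO) gβ hgβ ζ₁ (fun _ => rfl) hζ₁,
      gysinCH_pullFib (w := secs hO) sqb.flip (isSetup_X' hX s₁) (isSetup_Y' hY s₁).1 hO Φ.zero_coord
        (secs_ne_zero hO) hdb' hgO (Iso.refl _) _ hzb (secs_ne_zero hgO) gβ hgβ γ₀ (fun _ => rfl) hγ₀]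
    exact gysinCH_pullFib (w := secs hO) sqb.flip (isSetup_X' hX s₁) (isSetup_Y' hY s₁).1 hO Φ.zero_coord
        (secs_ne_zero hO) hdb' hO' (AmpleLib.pullO gS) _ Φ'.zero_coord (secs_ne_zero hO') gβ hgβ γ₀ (fun _ => rfl) hγ₀
  have r₄ := ratEquiv_op hX c s₂ (by push_cast; ring) hpγ hγ₁ r₁ hpξ hζ₁' e3 e2
  -- cancel the pullback
  have r₅ : Cyc.RatEquivZero s₂.δX' (k - 1 - p + 1) (pξ - pζ) := by
    have h := ratEquivZero_sub hD'.2.2 r₄ (ratEquivZero_add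
      (ratEquiv_cast (show k - p - 1 + 1 = k - 1 + (1 : ℕ) - p by push_cast; ring) r₂)
      (ratEquiv_cast (show k + (1 : ℕ) - p - 1 = k - 1 + (1 : ℕ) - p by push_cast; ring) r₃))
    rw [show (pξ - ζ₁) - ((pζ - ζ₂) + (ζ₂ - ζ₁)) = pξ - pζ by abel] at h
    have e : k - 1 - p + 1 = k - 1 + (1 : ℕ) - p := by push_cast; ring
    exact e ▸ h
  refine cl_eq_of_ratEquiv hξ hζ' ?_
  rw [et']
  refine Φ'.injective_p hsX hδE' (ξ - ζ) ?_ (pξ - pζ) ?_ r₅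
  · intro x hx
    have hx' : t.δX' x ≠ k - 1 - p := by rw [et']; exact hx
    show ξ x - ζ x = 0
    rw [hξ x hx', hζ' x hx', sub_zero]
  · rw [← et']
    exact congrArg DFunLike.coe (map_sub (pullHom hshp₂ hD'.2.2) ξ ζ).symm

/-- The bivariant class of a rule. -/
def toCl : Bivar.Cl p f δX δY where
  op := c.op
  push s t h _ h' _ a₁ a₂ a₃ k := c.push s t h h' a₁ a₂ a₃ k
  pull s t h _ h' _ r hr hr' a₁ a₂ a₃ k := c.pull s t h h' r hr hr' a₁ a₂ a₃ k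
  gysin s t i _ j _ a₁ a₂ a₃ _ hL _ hσ τ hτ k := gysinOK hX hY c s t i j a₁ a₂ a₃ hL hσ τ hτ k

end Groth.Agent.DeformLib
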